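import Cfsg.Agent.Lib.Fitting
import Cfsg.Prelude.Def_Transfer
import Mathlib.GroupTheory.Solvable
import Mathlib.GroupTheory.Perm.Cycle.Type

/-!
# Minimal normal subgroups and the Fitting subgroup
-/

set_option autoImplicit false

open Subgroup
open scoped commutatorElement

namespace Cfsg.Agent.Fitting

variable {G : Type*} [Group G]

/-- A normal nontrivial subgroup of a nilpotent group meets the centre nontrivially. -/
theorem inf_center_ne_bot [Group.IsNilpotent G] {N : Subgroup G} [N.Normal] (hN : N ≠ ⊥) :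
    N ⊓ center G ≠ ⊥ := by
  intro h
  obtain ⟨c, hc⟩ := Group.IsNilpotent.nilpotent G
  have key : ∀ n, N ⊓ Subgroup.upperCentralSeries G n = ⊥ := by
    intro n
    induction n with
    | zero => simp
    | succ n ih =>
      refine eq_bot_iff.mpr fun x hx => h.le ⟨hx.1, mem_center_iff.mpr fun y => ?_⟩
      have h1 : x * y * x⁻¹ * y⁻¹ ∈ N ⊓ Subgroup.upperCentralSeries G n := by
        refine ⟨?_, Subgroup.mem_upperCentralSeries_succ_iff.mp hx.2 y⟩
        simpa [mul_assoc] using mul_mem hx.1 (Subgroup.Normal.conj_mem inferInstance _ (inv_mem hx.1) y)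
      rw [ih, mem_bot, mul_inv_eq_one, mul_inv_eq_iff_eq_mul] at h1
      exact h1.symm
  exact hN (by simpa [hc] using key c)

/-- `M` is a minimal normal subgroup of `G`. -/
def IsMinNormal (M : Subgroup G) : Prop :=
  M.Normal ∧ M ≠ ⊥ ∧ ∀ K : Subgroup G, K.Normal → K ≤ M → K = ⊥ ∨ K = M

theorem exists_isMinNormal_le [Finite G] {N : Subgroup G} (hN : N.Normal) (hne : N ≠ ⊥) :
    ∃ M : Subgroup G, IsMinNormal M ∧ M ≤ N := by
  obtain ⟨M, hMN, hM⟩ :=
    exists_minimal_le_of_wellFoundedLT (fun K : Subgroup G => K.Normal ∧ K ≠ ⊥) N ⟨hN, hne⟩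
  refine ⟨M, ⟨hM.1.1, hM.1.2, fun K hK hKM => ?_⟩, hMN⟩
  by_cases h : K = ⊥
  · exact .inl h
  · exact .inr (le_antisymm hKM (hM.2 ⟨hK, h⟩ hKM))

theorem exists_isMinNormal [Finite G] [Nontrivial G] : ∃ M : Subgroup G, IsMinNormal M :=
  (exists_isMinNormal_le (N := (⊤ : Subgroup G)) inferInstance bot_lt_top.ne').imp fun _ h => h.1

/-- A minimal normal subgroup lies in, or meets trivially, every normal subgroup. -/
theorem IsMinNormal.le_or_inf_eq_bot {M : Subgroup G} (hM : IsMinNormal M) (N : Subgroup G)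
    [N.Normal] : M ≤ N ∨ M ⊓ N = ⊥ := by
  have := hM.1
  rcases hM.2.2 (M ⊓ N) inferInstance inf_le_left with h | h
  · exact .inr h
  · exact .inl (inf_eq_left.mp h)

/-- A solvable minimal normal subgroup is abelian. -/
theorem IsMinNormal.isMulCommutative {M : Subgroup G} (hM : IsMinNormal M) [Group.IsSolvable M] :
    IsMulCommutative M := by
  have := hM.1
  have hlt : ⁅M, M⁆ < M := by
    refine lt_of_le_of_ne (commutator_le_left M M) fun h => ?_
    have : Nontrivial M := (nontrivial_iff_ne_bot M).mpr hM.2.1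
    refine (Group.IsSolvable.commutator_lt_top_of_nontrivial M).ne ?_
    apply map_injective M.subtype_injective
    rw [map_subtype_commutator, ← MonoidHom.range_eq_map, range_subtype, h]
  rcases hM.2.2 ⁅M, M⁆ inferInstance hlt.le with h | h
  · refine ⟨⟨fun a b => Subtype.ext ?_⟩⟩
    exact (mem_centralizer_iff.mp (commutator_eq_bot_iff_le_centralizer.mp h b.2) a a.2)
  · exact absurd h hlt.ne

/-- An abelian minimal normal subgroup of a finite group is elementary abelian. -/
theorem IsMinNormal.exists_isElementaryAbelian [Finite G] {M : Subgroup G} (hM : IsMinNormal M)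
    [IsMulCommutative M] : ∃ p : ℕ, p.Prime ∧ Cfsg.IsElementaryAbelian p M := by
  obtain ⟨p, hp, hdvd⟩ := Nat.exists_prime_and_dvd
    (show Nat.card M ≠ 1 from fun h => hM.2.1 (eq_bot_of_card_eq M h))
  have : Fact p.Prime := ⟨hp⟩
  obtain ⟨x, hx⟩ := exists_prime_orderOf_dvd_card' (G := M) p hdvd
  have hc : ∀ a ∈ M, ∀ b ∈ M, Commute a b := fun a ha b hb =>
    congrArg Subtype.val (mul_comm' (⟨a, ha⟩ : M) ⟨b, hb⟩)
  let K : Subgroup G :=
    { carrier := {a | a ∈ M ∧ a ^ p = 1}
      one_mem' := ⟨one_mem _, one_pow _⟩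
      mul_mem' := fun {a b} ha hb => ⟨mul_mem ha.1 hb.1, by
        rw [(hc a ha.1 b hb.1).mul_pow, ha.2, hb.2, one_mul]⟩
      inv_mem' := fun {a} ha => ⟨inv_mem ha.1, by rw [inv_pow, ha.2, inv_one]⟩ }
  have hK : K.Normal := ⟨fun a ha g => ⟨hM.1.conj_mem a ha.1 g, by
    rw [conj_pow, ha.2, mul_one, mul_inv_cancel]⟩⟩
  rcases hM.2.2 K hK (fun a ha => ha.1) with h | h
  · have h1 : (x : G) ∈ K := ⟨x.2, by rw [← coe_pow, ← hx, pow_orderOf_eq_one, coe_one]⟩
    rw [h, mem_bot] at h1
    rw [Subtype.ext (h1.trans (coe_one M).symm), orderOf_one] at hx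
    exact absurd hx.symm hp.ne_one
  · exact ⟨p, hp, inferInstance, fun a ha => (h.ge ha).2⟩

theorem isPGroup_of_isElementaryAbelian {p : ℕ} {A : Subgroup G}
    (hA : Cfsg.IsElementaryAbelian p A) : IsPGroup p A := fun a =>
  ⟨1, Subtype.ext (by simpa using hA.2 a a.2)⟩

/-- In a finite solvable group a minimal normal subgroup is elementary abelian. -/
theorem IsMinNormal.exists_isElementaryAbelian_of_isSolvable [Finite G] [Group.IsSolvable G]
    {M : Subgroup G} (hM : IsMinNormal M) : ∃ p : ℕ, p.Prime ∧ Cfsg.IsElementaryAbelian p M :=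
  have := hM.isMulCommutative
  hM.exists_isElementaryAbelian

theorem IsMinNormal.le_fitting {M : Subgroup G} (hM : IsMinNormal M) [IsMulCommutative M] :
    M ≤ Cfsg.fittingSubgroup G := by
  refine Cfsg.Agent.Fitting.le_fitting hM.1 (Group.IsNilpotent.mk ⟨1, ?_⟩)
  rw [Subgroup.upperCentralSeries_one, eq_top_iff]
  intro a _
  rw [mem_center_iff]
  exact fun b => mul_comm' b a

/-- The Fitting subgroup centralizes every minimal normal subgroup. -/
theorem IsMinNormal.fitting_le_centralizer [Finite G] {M : Subgroup G} (hM : IsMinNormal M) :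
    Cfsg.fittingSubgroup G ≤ centralizer (M : Set G) := by
  have := hM.1
  rcases hM.le_or_inf_eq_bot (Cfsg.fittingSubgroup G) with h | h
  · have : Group.IsNilpotent (Cfsg.fittingSubgroup G) := fitting_isNilpotent
    have hne : M.subgroupOf (Cfsg.fittingSubgroup G) ≠ ⊥ := fun h0 =>
      hM.2.1 (le_bot_iff.mp fun x hx => by
        have : (⟨x, h hx⟩ : Cfsg.fittingSubgroup G) ∈ M.subgroupOf _ := hx
        rw [h0, mem_bot] at this
        exact mem_bot.mpr (congrArg Subtype.val this))
    have hne' := inf_center_ne_bot hne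
    let F := Cfsg.fittingSubgroup G
    rcases hM.2.2 (M ⊓ centralizer (F : Set G)) inferInstance inf_le_left with h1 | h1
    · refine absurd (le_bot_iff.mp fun x hx => mem_bot.mpr (Subtype.ext ?_)) hne'
      have : (x : G) ∈ M ⊓ centralizer (F : Set G) :=
        ⟨hx.1, mem_centralizer_iff.mpr fun y hy =>
          congrArg Subtype.val (mem_center_iff.mp hx.2 ⟨y, hy⟩)⟩
      rwa [h1, mem_bot] at this
    · exact le_centralizer_iff.mp (inf_eq_left.mp h1)
  · intro f hf
    rw [mem_centralizer_iff]
    exact fun m hm => commute_of_normal_of_disjoint _ _ hM.1 inferInstance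
      (disjoint_iff.mpr h) m f hm hf

/-- In a finite solvable group the Fitting subgroup contains its centralizer. -/
theorem centralizer_fitting_le [Finite G] [Group.IsSolvable G] :
    centralizer (Cfsg.fittingSubgroup G : Set G) ≤ Cfsg.fittingSubgroup G := by
  set F := Cfsg.fittingSubgroup G with hF
  set C := centralizer (F : Set G) with hC
  obtain ⟨n, hn⟩ := (Group.isSolvable_def C).mp inferInstance
  let D : ℕ → Subgroup G := fun i => (derivedSeries C i).map C.subtype
  have hD : ∀ i, D i ≤ F := by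
    suffices h : ∀ k i, n ≤ i + k → D i ≤ F from fun i => h n i (Nat.le_add_left n i)
    intro k
    induction k with
    | zero =>
      intro i hi
      simp only [D]
      rw [le_bot_iff.mp ((derivedSeries_antitone C (show n ≤ i from hi)).trans hn.le), Subgroup.map_bot]
      exact bot_le
    | succ k ih =>
      intro i hi
      have h1 : D (i + 1) ≤ F := ih (i + 1) (by omega)
      have h2 : D (i + 1) = ⁅D i, D i⁆ := by
        simp only [D, derivedSeries_succ, map_commutator]
      refine le_fitting inferInstance ?_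
      refine isNilpotent_of_lowerCentralSeries_eq_bot (n := 2) ?_
      rw [Subgroup.lowerCentralSeries_succ, Subgroup.lowerCentralSeries_succ, Subgroup.lowerCentralSeries_zero,
        commutator_eq_bot_iff_le_centralizer, ← h2]
      exact h1.trans (le_centralizer_iff.mp (map_subtype_le _))
  simpa [D, ← MonoidHom.range_eq_map] using hD 0

/-- If `Φ(G) = ⊥`, the Fitting subgroup is the abelian socle. -/
theorem fitting_eq_abelian_socle [Finite G] (hΦ : frattini G = ⊥) :
    Cfsg.fittingSubgroup G =
      sSup {N : Subgroup G | IsMinNormal N ∧ IsMulCommutative N} := by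
  set S := sSup {N : Subgroup G | IsMinNormal N ∧ IsMulCommutative N} with hS
  have hSF : S ≤ Cfsg.fittingSubgroup G := sSup_le fun N hN =>
    have := hN.2
    hN.1.le_fitting
  have hFS : Cfsg.fittingSubgroup G ≤ centralizer (S : Set G) := by
    rw [le_centralizer_iff]
    exact sSup_le fun N hN => le_centralizer_iff.mp hN.1.fitting_le_centralizer
  have : S.Normal := Subgroup.sSup_normal _ fun N hN => hN.1.1
  have : IsMulCommutative S := ⟨⟨fun a b => Subtype.ext
    (mem_centralizer_iff.mp (hFS (hSF b.2)) a a.2)⟩⟩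
  obtain ⟨H, hH⟩ := exists_complement_of_inf_frattini_eq_bot S (by rw [hΦ, inf_bot_eq])
  refine le_antisymm ?_ hSF
  have hK : (Cfsg.fittingSubgroup G ⊓ H).Normal := by
    rw [← normalizer_eq_top_iff, eq_top_iff, ← hH.sup_eq_top, sup_le_iff]
    refine ⟨?_, ?_⟩
    · refine le_trans ?_ (centralizer_le_normalizer _)
      exact le_centralizer_iff.mp (inf_le_left.trans hFS)
    · refine fun h hh => mem_normalizer_iff.mpr fun x => ?_
      simp only [mem_inf]
      rw [mul_mem_cancel_right (inv_mem hh), mul_mem_cancel_left hh]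
      exact and_congr_left fun _ => fitting_normal.mem_comm_iff.trans
        (by rw [inv_mul_cancel_left]) |>.symm
  have hbot : Cfsg.fittingSubgroup G ⊓ H = ⊥ := by
    by_contra hne
    obtain ⟨M, hM, hMle⟩ := exists_isMinNormal_le hK hne
    have hMab : IsMulCommutative M := ⟨⟨fun a b => Subtype.ext
      (mem_centralizer_iff.mp (hM.fitting_le_centralizer (mem_inf.mp (hMle b.2)).1) a a.2)⟩⟩
    have : M ≤ S ⊓ H := le_inf (le_sSup ⟨hM, hMab⟩) (hMle.trans inf_le_right)
    rw [hH.disjoint.eq_bot, le_bot_iff] at this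
    exact hM.2.1 this
  intro f hf
  obtain ⟨s, hs, h, hh, rfl⟩ := mem_sup_of_normal_left.mp (hH.sup_eq_top.ge (mem_top f))
  have : h ∈ Cfsg.fittingSubgroup G ⊓ H := ⟨(mul_mem_cancel_left (hSF hs)).mp hf, hh⟩
  rw [hbot, mem_bot] at this
  rwa [this, mul_one]

end Cfsg.Agent.Fitting
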