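import Cfsg.Agent.Lib.Fitting.Carter
import Cfsg.Agent.Lib.CharCore.Burnside
import Cfsg.Agent.S0558
import Cfsg.Agent.S0559
import Cfsg.Agent.S0560
import Cfsg.Agent.S0562
import Cfsg.Agent.S0566
import Cfsg.Agent.S0581

/-!
# Products of two nilpotent subgroups are solvable (Kegel–Wielandt)

In a minimal counterexample with coprime factors both factors are trivial intersection subgroups
and an element count gives a contradiction.
-/

set_option autoImplicit false

open Subgroup
open scoped Pointwise commutatorElement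

namespace Cfsg.Agent.KegelWielandt

universe u

open Cfsg.Agent.Solvable (mem_conj_smul)

variable {G : Type u} [Group G] [Finite G]

/-- `G` is the product of `A` and `B`. -/
def IsProd (A B : Subgroup G) : Prop := ∀ g : G, ∃ a ∈ A, ∃ b ∈ B, g = a * b

omit [Finite G] in
theorem IsProd.symm {A B : Subgroup G} (h : IsProd A B) : IsProd B A := fun g => by
  obtain ⟨a, ha, b, hb, he⟩ := h g⁻¹
  exact ⟨b⁻¹, inv_mem hb, a⁻¹, inv_mem ha, by rw [← mul_inv_rev, ← he, inv_inv]⟩

theorem card_eq_mul {A B : Subgroup G} (hAB : IsProd A B)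
    (hcop : (Nat.card A).Coprime (Nat.card B)) : Nat.card G = Nat.card A * Nat.card B := by
  have h := Cfsg.Agent.S0560.card_mul_mul_card_inf A B
  have hu : (A : Set G) * (B : Set G) = Set.univ := Set.eq_univ_of_forall fun g => by
    obtain ⟨a, ha, b, hb, rfl⟩ := hAB g
    exact ⟨a, ha, b, hb, rfl⟩
  rw [hu, Nat.card_congr (Equiv.Set.univ G), (disjoint_of_coprime_natCard hcop).eq_bot,
    card_bot, mul_one] at h
  exact h

theorem index_eq {A B : Subgroup G} (hAB : IsProd A B)
    (hcop : (Nat.card A).Coprime (Nat.card B)) : A.index = Nat.card B := by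
  have h := A.card_mul_index
  rw [card_eq_mul hAB hcop] at h
  exact Nat.eq_of_mul_eq_mul_left Nat.card_pos h

omit [Finite G] in
theorem conj_smul_eq_of_normal {A P : Subgroup G} (hP : P ≤ A) (hn : (P.subgroupOf A).Normal)
    {a : G} (ha : a ∈ A) : MulAut.conj a • P = P := by
  ext x
  rw [mem_conj_smul]
  constructor
  · intro hx
    simpa [mul_assoc] using (normal_subgroupOf_iff hP).mp hn _ a hx ha
  · intro hx
    simpa [mul_assoc] using (normal_subgroupOf_iff hP).mp hn x a⁻¹ hx (inv_mem ha)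

/-- Products of normal subgroups of the factors: one product being a subgroup, they all are. -/
theorem exists_smul_eq_mul {A B P Q S : Subgroup G} (hAB : IsProd A B)
    (hP : P ≤ A) (hPn : (P.subgroupOf A).Normal) (hQ : Q ≤ B) (hQn : (Q.subgroupOf B).Normal)
    (hS : (S : Set G) = (P : Set G) * Q) (x : G) :
    ∃ a ∈ A, ((MulAut.conj a • S : Subgroup G) : Set G) =
      (P : Set G) * (MulAut.conj x • Q : Subgroup G) := by
  obtain ⟨a, ha, b, hb, rfl⟩ := hAB x
  refine ⟨a, ha, ?_⟩
  rw [map_mul, mul_smul, conj_smul_eq_of_normal hQ hQn hb, coe_pointwise_smul, hS, smul_mul',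
    ← coe_pointwise_smul, ← coe_pointwise_smul, conj_smul_eq_of_normal hP hPn ha]

theorem relIndex_dvd_of_inf_eq_bot {A P : Subgroup G} (h : P ≤ A) :
    Nat.card P * P.relIndex A = Nat.card A :=
  Cfsg.Agent.Solvable.card_mul_relIndex h

/-- Normal Hall subgroups of the factors which lie in one solvable subgroup permute. -/
theorem exists_mul_eq_of_solvable {A B P Q : Subgroup G} (hAB : IsProd A B)
    (hcop : (Nat.card A).Coprime (Nat.card B))
    (hP : P ≤ A) (hPn : (P.subgroupOf A).Normal) (hPh : (Nat.card P).Coprime (P.relIndex A))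
    (hQ : Q ≤ B) (hQn : (Q.subgroupOf B).Normal) (hQh : (Nat.card Q).Coprime (Q.relIndex B))
    (L : Subgroup G) [Group.IsSolvable L] (hPL : P ≤ L) (hQL : Q ≤ L) :
    ∃ S : Subgroup G, (S : Set G) = (P : Set G) * Q ∧ Nat.card S ≤ Nat.card L := by
  have cP := Cfsg.Agent.Solvable.card_mul_relIndex hP
  have cQ := Cfsg.Agent.Solvable.card_mul_relIndex hQ
  have hPB : (Nat.card P).Coprime (Nat.card B) := hcop.coprime_dvd_left (card_dvd_of_le hP)
  have hAQ : (Nat.card A).Coprime (Nat.card Q) := hcop.coprime_dvd_right (card_dvd_of_le hQ)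
  have hPQ : (Nat.card P).Coprime (Nat.card Q) := hPB.coprime_dvd_right (card_dvd_of_le hQ)
  set m := Nat.card P * Nat.card Q with hm
  have hme : m.Coprime (P.relIndex A * Q.relIndex B) :=
    Nat.Coprime.mul_left (hPh.mul_right (hPB.coprime_dvd_right (Dvd.intro_left _ cQ)))
      ((hAQ.symm.coprime_dvd_right (Dvd.intro_left _ cP)).mul_right hQh)
  have hmL : m ∣ Nat.card L := hPQ.mul_dvd_of_dvd_of_dvd (card_dvd_of_le hPL) (card_dvd_of_le hQL)
  obtain ⟨n, hn⟩ := hmL
  have hne : n ∣ P.relIndex A * Q.relIndex B := by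
    have h1 : Nat.card L ∣ Nat.card G := card_subgroup_dvd_card L
    rw [card_eq_mul hAB hcop, ← cP, ← cQ, hn,
      show Nat.card P * P.relIndex A * (Nat.card Q * Q.relIndex B) =
        m * (P.relIndex A * Q.relIndex B) by rw [hm]; ring] at h1
    exact Nat.dvd_of_mul_dvd_mul_left (Nat.mul_pos Nat.card_pos Nat.card_pos) h1
  have hmn : m.Coprime n := hme.coprime_dvd_right hne
  obtain ⟨H, hH⟩ := Cfsg.Agent.Solvable.exists_hall (G := L) hn hmn
  obtain ⟨l, hl⟩ := Cfsg.Agent.Solvable.le_conj_hall hn hmn H (P.subgroupOf L) hH (by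
    rw [Cfsg.Agent.Solvable.card_subgroupOf hPL]
    exact hmn.coprime_dvd_left (Dvd.intro _ hm.symm))
  obtain ⟨l', hl'⟩ := Cfsg.Agent.Solvable.le_conj_hall hn hmn H (Q.subgroupOf L) hH (by
    rw [Cfsg.Agent.Solvable.card_subgroupOf hQL]
    exact hmn.coprime_dvd_left (Dvd.intro_left _ hm.symm))
  set H' : Subgroup G := (MulAut.conj l • H).map L.subtype with hH'
  set x : G := (l : G) * (l' : G)⁻¹ with hx
  have hH'c : Nat.card H' = m := by
    rw [hH', card_map_of_injective L.subtype_injective, Cfsg.Agent.Solvable.card_conj_smul, hH]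
  have h1 : P ≤ H' := fun y hy => ⟨⟨y, hPL hy⟩, hl hy, rfl⟩
  have h2 : MulAut.conj x • Q ≤ H' := by
    intro y hy
    rw [mem_conj_smul, hx] at hy
    have hy' : (⟨_, hQL hy⟩ : L) ∈ MulAut.conj l' • H := hl' hy
    rw [mem_conj_smul] at hy'
    refine ⟨(l * l'⁻¹) * (⟨_, hQL hy⟩ : L) * (l * l'⁻¹)⁻¹, ?_, by simp [mul_assoc]⟩
    show _ ∈ MulAut.conj l • H
    rw [mem_conj_smul]
    simpa [mul_assoc] using hy'
  have hset : (H' : Set G) = (P : Set G) * (MulAut.conj x • Q : Subgroup G) := by
    refine (Set.eq_of_subset_of_ncard_le ?_ ?_ (Set.toFinite _)).symm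
    · rintro _ ⟨p, hp, q, hq, rfl⟩
      exact mul_mem (h1 hp) (h2 hq)
    · have hc := Cfsg.Agent.S0560.card_mul_mul_card_inf P (MulAut.conj x • Q)
      rw [(disjoint_of_coprime_natCard (by rwa [Cfsg.Agent.Solvable.card_conj_smul]) :
        Disjoint P (MulAut.conj x • Q)).eq_bot, card_bot, mul_one,
        Cfsg.Agent.Solvable.card_conj_smul] at hc
      rw [← Nat.card_coe_set_eq, ← Nat.card_coe_set_eq, hc]
      exact hH'c.le
  obtain ⟨a, ha, b, hb, hab⟩ := hAB x
  refine ⟨MulAut.conj a⁻¹ • H', ?_, ?_⟩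
  · rw [coe_pointwise_smul, hset, hab, map_mul MulAut.conj a b, mul_smul,
      conj_smul_eq_of_normal hQ hQn hb, smul_mul',
      ← coe_pointwise_smul, ← coe_pointwise_smul, conj_smul_eq_of_normal hP hPn (inv_mem ha),
      map_inv, inv_smul_smul]
  · rw [Cfsg.Agent.Solvable.card_conj_smul, hH'c]
    exact Nat.le_of_dvd Nat.card_pos (Dvd.intro _ hn.symm)

/-- The part of a nilpotent subgroup generated by its elements of order prime to `t`. -/
def primePrimePart (t : ℕ) (B : Subgroup G) : Subgroup G :=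
  closure {x : G | x ∈ B ∧ (orderOf x).Coprime t}

omit [Finite G] in
theorem primePrimePart_le (t : ℕ) (B : Subgroup G) : primePrimePart t B ≤ B :=
  (closure_le B).mpr fun _ hx => hx.1

omit [Finite G] in
theorem mem_primePrimePart {t : ℕ} {B : Subgroup G} {x : G} (hx : x ∈ B)
    (h : (orderOf x).Coprime t) : x ∈ primePrimePart t B := subset_closure ⟨hx, h⟩

omit [Finite G] in
theorem primePrimePart_normal (t : ℕ) (B : Subgroup G) :
    ((primePrimePart t B).subgroupOf B).Normal := by
  rw [normal_subgroupOf_iff (primePrimePart_le t B)]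
  intro x b hx hb
  have h1 : (primePrimePart t B).map (MulAut.conj b).toMonoidHom ≤ primePrimePart t B := by
    rw [primePrimePart, MonoidHom.map_closure]
    refine closure_mono ?_
    rintro _ ⟨y, ⟨hy, hyo⟩, rfl⟩
    exact ⟨mul_mem (mul_mem hb hy) (inv_mem hb), by
      rwa [MulEquiv.coe_toMonoidHom, MulEquiv.orderOf_eq]⟩
  exact h1 ⟨x, hx, rfl⟩

theorem commute_of_mem {B : Subgroup G} (hB : Group.IsNilpotent B) {x y : G} (hx : x ∈ B)
    (hy : y ∈ B) (h : (orderOf x).Coprime (orderOf y)) : Commute x y :=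
  congrArg Subtype.val (Cfsg.Agent.Transfer.nilpotent_commute_of_coprime hB
    (x := (⟨x, hx⟩ : B)) (y := ⟨y, hy⟩) (by simpa only [Subgroup.orderOf_mk] using h)).eq

omit [Finite G] in
theorem orderOf_of_mem_pgroup {p : ℕ} [Fact p.Prime] {U : Subgroup G} (hU : IsPGroup p U) {x : G}
    (hx : x ∈ U) : ∃ k, orderOf x = p ^ k := by
  obtain ⟨k, hk⟩ := IsPGroup.iff_orderOf.mp hU ⟨x, hx⟩
  exact ⟨k, by rwa [Subgroup.orderOf_mk] at hk⟩

theorem primePrimePart_le_centralizer {B : Subgroup G} (hB : Group.IsNilpotent B) {t : ℕ}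
    [Fact t.Prime] {U : Subgroup G} (hUB : U ≤ B) (hU : IsPGroup t U) :
    primePrimePart t B ≤ centralizer (U : Set G) := by
  refine (closure_le _).mpr fun x hx => mem_centralizer_iff.mpr fun u hu => ?_
  obtain ⟨k, hk⟩ := orderOf_of_mem_pgroup hU hu
  exact (commute_of_mem hB (hUB hu) hx.1 (by rw [hk]; exact (hx.2.pow_right k).symm)).eq

/-- A subgroup containing the prime power elements of `X` contains `X`. -/
theorem le_of_prime_pow_mem {X Y : Subgroup G}
    (h : ∀ q : ℕ, q.Prime → q ∣ Nat.card X → ∀ x ∈ X, (∃ k, orderOf x = q ^ k) → x ∈ Y) :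
    X ≤ Y := by
  refine subgroupOf_eq_top.mp (Cfsg.Agent.Transfer.eq_top_of_prime_pow_orderOf_mem
    fun q hq x ⟨k, hk⟩ => ?_)
  rw [mem_subgroupOf]
  rcases Nat.eq_zero_or_pos k with hk0 | hk0
  · rw [hk0, pow_zero, orderOf_eq_one_iff] at hk
    simp [hk]
  · exact h q hq ((dvd_pow_self q hk0.ne').trans (hk.symm.dvd.trans (_root_.orderOf_dvd_natCard x)))
      x x.2 ⟨k, by rw [Subgroup.orderOf_coe, hk]⟩

/-! ### The minimal counterexample with coprime factors -/

/-- The assumptions on a minimal counterexample. -/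
structure Setup (A B : Subgroup G) : Prop where
  hA : Group.IsNilpotent A
  hB : Group.IsNilpotent B
  hAB : IsProd A B
  hcop : (Nat.card A).Coprime (Nat.card B)
  simple : ∀ N : Subgroup G, N.Normal → N = ⊥ ∨ N = ⊤
  notSolv : ¬ Group.IsSolvable G
  ih : ∀ X : Subgroup G, X ≠ ⊤ →
    (∀ g ∈ X, ∃ a ∈ A, a ∈ X ∧ ∃ b ∈ B, b ∈ X ∧ g = a * b) → Group.IsSolvable X

namespace Setup

variable {A B : Subgroup G} (S : Setup A B)

include S

theorem symm : Setup B A := by
  refine ⟨S.hB, S.hA, S.hAB.symm, S.hcop.symm, S.simple, S.notSolv,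
    fun X hX h => S.ih X hX fun g hg => ?_⟩
  obtain ⟨b, hb, hbX, a, ha, haX, he⟩ := h g⁻¹ (inv_mem hg)
  exact ⟨a⁻¹, inv_mem ha, inv_mem haX, b⁻¹, inv_mem hb, inv_mem hbX,
    by rw [← mul_inv_rev, ← he, inv_inv]⟩

theorem A_ne_top : A ≠ ⊤ := fun h => S.notSolv <| by
  have h1 : Group.IsNilpotent (⊤ : Subgroup G) := h ▸ S.hA
  have := Group.isNilpotent_top.mp h1
  infer_instance

theorem A_ne_bot : A ≠ ⊥ := fun h => S.symm.A_ne_top <| eq_top_iff.mpr fun g _ => by
  obtain ⟨a, ha, b, hb, rfl⟩ := S.hAB g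
  rw [h, mem_bot] at ha
  rwa [ha, one_mul]

theorem normalizer_ne_top {J : Subgroup G} (hbot : J ≠ ⊥) (htop : J ≠ ⊤) :
    normalizer (J : Set G) ≠ ⊤ := fun h =>
  (S.simple J (normalizer_eq_top_iff.mp h)).elim hbot htop

theorem centralizer_ne_top {x : G} (hx : x ≠ 1) : centralizer ({x} : Set G) ≠ ⊤ := fun h => by
  rcases S.simple (center G) inferInstance with h1 | h1
  · have : x ∈ center G := mem_center_iff.mpr fun g =>
      mem_centralizer_singleton_iff.mp (h.ge (mem_top g))
    rw [h1, mem_bot] at this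
    exact hx this
  · exact S.notSolv (Group.isSolvable_of_comm fun a b => mem_center_iff.mp (h1.ge (mem_top b)) a)

theorem solvable_of_le {X : Subgroup G} (hX : X ≠ ⊤) (hle : A ≤ X) : Group.IsSolvable X := by
  refine S.ih X hX fun g hg => ?_
  obtain ⟨a, ha, b, hb, rfl⟩ := S.hAB g
  exact ⟨a, ha, hle ha, b, hb, (mul_mem_cancel_left (hle ha)).mp hg, rfl⟩

theorem exists_central {p : ℕ} (hp : p.Prime) (hd : p ∣ Nat.card A) :
    ∃ z ∈ A, orderOf z = p ∧ ∀ a ∈ A, a * z = z * a := by
  have := Fact.mk hp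
  have := S.hA
  let P : Sylow p A := default
  have hPne : (P : Subgroup A) ≠ ⊥ := P.ne_bot_of_dvd_card hd
  have hne := Cfsg.Agent.Fitting.inf_center_ne_bot hPne
  have hpg : IsPGroup p ↥((P : Subgroup A) ⊓ center A) := P.2.to_inf_left
  obtain ⟨z, hz⟩ := exists_prime_orderOf_dvd_card' (G := ↥((P : Subgroup A) ⊓ center A)) p
    (hpg.card_eq_or_dvd.resolve_left fun h => hne (eq_bot_of_card_eq _ h))
  refine ⟨((z : A) : G), (z : A).2, by rw [Subgroup.orderOf_coe, Subgroup.orderOf_coe, hz],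
    fun a ha => ?_⟩
  exact congrArg Subtype.val (mem_center_iff.mp z.2.2 ⟨a, ha⟩)

theorem exists_other_prime (p : ℕ) : ∃ q : ℕ, q.Prime ∧ q ∣ Nat.card A ∧ q ≠ p := by
  by_contra hcon
  push Not at hcon
  obtain ⟨q, hq, hqA⟩ := Nat.exists_prime_and_dvd
    (show Nat.card A ≠ 1 from fun h => S.A_ne_bot (eq_bot_of_card_eq A h))
  obtain ⟨r, hr, hrB⟩ := Nat.exists_prime_and_dvd
    (show Nat.card B ≠ 1 from fun h => S.symm.A_ne_bot (eq_bot_of_card_eq B h))
  obtain ⟨w, hw, hwo, hwc⟩ := S.symm.exists_central hr hrB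
  have hw1 : w ≠ 1 := fun h => hr.ne_one (by rw [← hwo, h, orderOf_one])
  have hdvd : (centralizer ({w} : Set G)).index ∣ Nat.card A := by
    rw [← index_eq S.symm.hAB S.symm.hcop]
    exact index_dvd_of_le fun b hb => mem_centralizer_singleton_iff.mpr (hwc b hb)
  obtain rfl := hcon q hq hqA
  have hA : Nat.card A = q ^ (Nat.card A).primeFactorsList.length :=
    Nat.eq_prime_pow_of_unique_prime_dvd Nat.card_pos.ne' fun hd hdv => hcon _ hd hdv
  rw [hA] at hdvd
  obtain ⟨k, -, hk⟩ := (Nat.dvd_prime_pow hq).mp hdvd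
  have : Nontrivial G := nontrivial_of_ne w 1 hw1
  have : IsSimpleGroup G := ⟨S.simple⟩
  have hprime := Cfsg.Agent.CharCore.prime_card_of_prime_power_class hq hw1 hk
  have : Fact (Nat.card G).Prime := ⟨hprime⟩
  have : IsCyclic G := isCyclic_of_prime_card rfl
  have : IsMulCommutative G := IsCyclic.isMulCommutative
  exact S.notSolv (Group.isSolvable_of_comm fun a b => mul_comm' a b)

theorem mem_of_mem_normalizer {x : G} (hx : x ∈ normalizer (A : Set G))
    (h : (orderOf x).Coprime (Nat.card B)) : x ∈ A :=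
  Cfsg.Agent.Carter.mem_of_coprime_of_mem_normalizer hx (by rwa [index_eq S.hAB S.hcop])

theorem not_dvd_B {q : ℕ} (hq : q.Prime) (hqA : q ∣ Nat.card A) : ¬ q ∣ Nat.card B := fun h =>
  hq.ne_one (Nat.eq_one_of_dvd_coprimes S.hcop hqA h)

theorem coprime_B {q : ℕ} (hq : q.Prime) (hqA : q ∣ Nat.card A) : q.Coprime (Nat.card B) :=
  hq.coprime_iff_not_dvd.mpr (S.not_dvd_B hq hqA)

theorem hallA : (Nat.card A).Coprime A.index := by
  rw [index_eq S.hAB S.hcop]; exact S.hcop

/-- No proper subgroup contains full primary components of both factors. -/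
theorem not_le_proper {X : Subgroup G} (hX : X ≠ ⊤) {s r : ℕ} (hs : s.Prime)
    (hsA : s ∣ Nat.card A) (hr : r.Prime) (hrB : r ∣ Nat.card B)
    (hPX : ∀ x ∈ A, (∃ k, orderOf x = s ^ k) → x ∈ X)
    (hQX : ∀ x ∈ B, (∃ k, orderOf x = r ^ k) → x ∈ X) : False := by
  have := Fact.mk hs
  have := Fact.mk hr
  have := S.hA
  have := S.hB
  let P0 : Sylow s A := default
  let Q0 : Sylow r B := default
  set P := (P0 : Subgroup A).map A.subtype with hPdef
  set Q := (Q0 : Subgroup B).map B.subtype with hQdef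
  have hP : P ≤ A := map_subtype_le _
  have hQ : Q ≤ B := map_subtype_le _
  have hP0 : P.subgroupOf A = (P0 : Subgroup A) :=
    comap_map_eq_self_of_injective A.subtype_injective _
  have hQ0 : Q.subgroupOf B = (Q0 : Subgroup B) :=
    comap_map_eq_self_of_injective B.subtype_injective _
  have hPn : (P.subgroupOf A).Normal := hP0 ▸ inferInstance
  have hQn : (Q.subgroupOf B).Normal := hQ0 ▸ inferInstance
  have hPh : (Nat.card P).Coprime (P.relIndex A) := by
    rw [relIndex, hP0, hPdef, card_map_of_injective A.subtype_injective]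
    exact P0.card_coprime_index
  have hQh : (Nat.card Q).Coprime (Q.relIndex B) := by
    rw [relIndex, hQ0, hQdef, card_map_of_injective B.subtype_injective]
    exact Q0.card_coprime_index
  have hPne : P ≠ ⊥ := by
    rw [hPdef, Ne, map_eq_bot_iff_of_injective _ A.subtype_injective]
    exact P0.ne_bot_of_dvd_card hsA
  have hQne : Q ≠ ⊥ := by
    rw [hQdef, Ne, map_eq_bot_iff_of_injective _ B.subtype_injective]
    exact Q0.ne_bot_of_dvd_card hrB
  have hPle : P ≤ X := fun x hx => hPX x (hP hx) (orderOf_of_mem_pgroup (P0.2.map _) hx)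
  have hQle : Q ≤ X := fun x hx => hQX x (hQ hx) (orderOf_of_mem_pgroup (Q0.2.map _) hx)
  set L := normalizer ((P ⊔ Q : Subgroup G) : Set G) with hL
  have hLtop : L ≠ ⊤ := S.normalizer_ne_top
    (fun h => hPne (le_bot_iff.mp (h ▸ le_sup_left)))
    (fun h => hX (top_le_iff.mp (h ▸ sup_le hPle hQle)))
  have hLsol : Group.IsSolvable L := S.ih L hLtop fun g hg => by
    obtain ⟨a, ha, b, hb, he⟩ :=
      Cfsg.Agent.S0562.result A B P Q S.hAB hP hPn hQ hQn g hg
    exact ⟨a, ha.2, ha.1, b, hb.2, hb.1, he⟩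
  obtain ⟨T, hT, hTc⟩ := exists_mul_eq_of_solvable S.hAB S.hcop hP hPn hPh hQ hQn hQh L
    (le_sup_left.trans le_normalizer) (le_sup_right.trans le_normalizer)
  have hTlt : Nat.card T < Nat.card G :=
    hTc.trans_lt (lt_of_le_of_ne L.card_le_card_group fun h => hLtop (eq_top_of_card_eq L h))
  obtain ⟨N, hN, hNtop, hle⟩ := Cfsg.Agent.S0566.result P Q hPne hQne fun x => by
    obtain ⟨a, -, hset⟩ := exists_smul_eq_mul S.hAB hP hPn hQ hQn hT x
    refine ⟨_, fun h => ?_, hset⟩
    have hc := Cfsg.Agent.Solvable.card_conj_smul a T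
    rw [h, card_top] at hc
    omega
  have hNbot : N = ⊥ := (S.simple N hN).resolve_right hNtop
  rcases hle with h | h
  · exact hPne (le_bot_iff.mp (hNbot ▸ h))
  · exact hQne (le_bot_iff.mp (hNbot ▸ h))

theorem not_B_le {X : Subgroup G} (hX : X ≠ ⊤) (hB : B ≤ X) {z : G} (hz : z ∈ X) (hz1 : z ≠ 1)
    (hc : ∀ a ∈ A, a * z = z * a) : False := by
  have hle : normalClosure ({z} : Set G) ≤ X := by
    refine (closure_le X).mpr fun y hy => ?_
    obtain ⟨w, hw, hc'⟩ := Group.mem_conjugatesOfSet_iff.mp hy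
    rw [Set.mem_singleton_iff] at hw
    subst hw
    obtain ⟨g, rfl⟩ := isConj_iff.mp hc'
    obtain ⟨b, hb, a, ha, rfl⟩ := S.hAB.symm g
    have h1 : a * w * a⁻¹ = w := by rw [hc a ha, mul_inv_cancel_right]
    have h2 : b * a * w * (b * a)⁻¹ = b * (a * w * a⁻¹) * b⁻¹ := by simp [mul_assoc]
    rw [SetLike.mem_coe, h2, h1]
    exact mul_mem (mul_mem (hB hb) hz) (inv_mem (hB hb))
  rcases S.simple _ normalClosure_normal with h | h
  · exact hz1 (mem_bot.mp (h.le (subset_normalClosure (Set.mem_singleton z))))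
  · exact hX (top_le_iff.mp (h.ge.trans hle))

theorem pgroup_le_of_normal {L : Subgroup G}
    (hL : ∀ g ∈ L, ∃ a ∈ A, a ∈ L ∧ ∃ b ∈ B, b ∈ L ∧ g = a * b) {u : ℕ} [Fact u.Prime]
    (huA : u ∣ Nat.card A) (O : Subgroup L) [O.Normal] (hO : IsPGroup u O) :
    O.map L.subtype ≤ A := by
  have hprod : IsProd (A.subgroupOf L) (B.subgroupOf L) := fun g => by
    obtain ⟨a, ha, haL, b, hb, hbL, he⟩ := hL g g.2
    exact ⟨⟨a, haL⟩, ha, ⟨b, hbL⟩, hb, Subtype.ext he⟩
  have hd : ∀ X : Subgroup G, Nat.card (X.subgroupOf L) ∣ Nat.card X := fun X => by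
    rw [← card_map_of_injective L.subtype_injective, subgroupOf_map_subtype]
    exact card_dvd_of_le inf_le_left
  have hc : (Nat.card (A.subgroupOf L)).Coprime (Nat.card (B.subgroupOf L)) :=
    (S.hcop.coprime_dvd_left (hd A)).coprime_dvd_right (hd B)
  have h1 : O ≤ A.subgroupOf L := by
    refine Cfsg.Agent.Carter.normal_le_of_coprime _ O ?_
    obtain ⟨e, he⟩ := IsPGroup.iff_card.mp hO
    rw [he, index_eq hprod hc]
    exact ((S.coprime_B Fact.out huA).pow_left e).coprime_dvd_right (hd B)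
  rintro _ ⟨x, hx, rfl⟩
  exact h1 hx

/-- A central element of prime order of `A` normalizes no nontrivial `t`-group, `t ∣ |B|`. -/
theorem no_invariant {p : ℕ} (hp : p.Prime) {z : G} (hzA : z ∈ A) (hzo : orderOf z = p)
    (hzc : ∀ a ∈ A, a * z = z * a) {t : ℕ} (ht : t.Prime) (htB : t ∣ Nat.card B) {U : Subgroup G}
    (hU : IsPGroup t U) (hUne : U ≠ ⊥) (hzU : z ∈ normalizer (U : Set G)) : False := by
  have := Fact.mk ht
  have hz1 : z ≠ 1 := fun h => hp.ne_one (by rw [← hzo, h, orderOf_one])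
  -- we may assume `U ≤ B`
  obtain ⟨g, hg⟩ := Cfsg.Agent.S0581.exists_conj_pgroup_le S.symm.hallA htB hU
  obtain ⟨b, hb, a, ha, rfl⟩ := S.hAB.symm g
  set U' := U.map (MulAut.conj a).toMonoidHom with hU'
  have hU'B : U' ≤ B := by
    rintro _ ⟨x, hx, rfl⟩
    show a * x * a⁻¹ ∈ B
    have h1 := mul_mem (mul_mem (inv_mem hb) (hg x hx)) hb
    simpa [mul_assoc] using h1
  have hU't : IsPGroup t U' := hU.map _
  have hU'ne : U' ≠ ⊥ := by
    rw [hU', Ne, map_eq_bot_iff_of_injective _ (MulAut.conj a).injective]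
    exact hUne
  have hzU' : z ∈ normalizer (U' : Set G) := by
    have h1 := le_normalizer_map (H := U) (MulAut.conj a).toMonoidHom (mem_map_of_mem _ hzU)
    have h2 : (MulAut.conj a).toMonoidHom z = z := by
      show a * z * a⁻¹ = z
      rw [hzc a ha, mul_inv_cancel_right]
    rwa [h2] at h1
  obtain ⟨r, hr, hrB, hrt⟩ := S.symm.exists_other_prime t
  have := Fact.mk hr
  set C := primePrimePart t B with hC
  have hzA' : zpowers z ≤ A := zpowers_le.mpr hzA
  have hzn : ((zpowers z).subgroupOf A).Normal := by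
    rw [normal_subgroupOf_iff hzA']
    intro x y hx hy
    obtain ⟨k, rfl⟩ := hx
    rw [← conj_zpow, hzc y hy, mul_inv_cancel_right]
    exact zpow_mem (mem_zpowers z) k
  set J := zpowers z ⊔ C with hJ
  have hJle : J ≤ normalizer (U' : Set G) := sup_le (zpowers_le.mpr hzU')
    ((primePrimePart_le_centralizer S.hB hU'B hU't).trans (centralizer_le_normalizer _))
  set L := normalizer (J : Set G) with hLdef
  have hNU : normalizer (U' : Set G) ≠ ⊤ := S.normalizer_ne_top hU'ne
    fun h => S.symm.A_ne_top (top_le_iff.mp (h ▸ hU'B))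
  have hLtop : L ≠ ⊤ := S.normalizer_ne_top
    (fun h => hz1 (mem_bot.mp (h ▸ mem_sup_left (mem_zpowers z))))
    (fun h => hNU (top_le_iff.mp (h ▸ hJle)))
  have hLfac : ∀ g ∈ L, ∃ a ∈ A, a ∈ L ∧ ∃ b ∈ B, b ∈ L ∧ g = a * b := fun g hg => by
    obtain ⟨a, ha, b, hb, he⟩ := Cfsg.Agent.S0562.result A B (zpowers z) C S.hAB hzA' hzn
      (primePrimePart_le t B) (primePrimePart_normal t B) g hg
    exact ⟨a, ha.2, ha.1, b, hb.2, hb.1, he⟩
  have : Group.IsSolvable L := S.ih L hLtop hLfac
  have hzL : z ∈ L := le_normalizer (mem_sup_left (mem_zpowers z))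
  have hCL : C ≤ L := le_sup_right.trans le_normalizer
  have hbot : ∀ u : Nat.Primes, (u : ℕ) ≠ t → Cfsg.pCore (u : ℕ) L = ⊥ := by
    intro u hut
    by_contra hne
    have := Fact.mk u.2
    set O := (Cfsg.pCore (u : ℕ) L).map L.subtype with hO
    have hOu : IsPGroup (u : ℕ) O := (Cfsg.Agent.Fitting.pCore_isPGroup _).map _
    have hOne : O ≠ ⊥ := by
      rwa [hO, Ne, map_eq_bot_iff_of_injective _ L.subtype_injective]
    have hLO : L ≤ normalizer (O : Set G) := by
      intro g hg
      refine mem_normalizer_iff_map_conj_eq.mpr (eq_of_le_of_card_ge ?_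
        (card_map_of_injective (MulAut.conj g).injective).ge)
      rintro _ ⟨_, ⟨x, hx, rfl⟩, rfl⟩
      exact ⟨_, (Cfsg.Agent.Fitting.pCore_normal _).conj_mem x hx ⟨g, hg⟩, rfl⟩
    have hOd : (u : ℕ) ∣ Nat.card A * Nat.card B := by
      rw [← card_eq_mul S.hAB S.hcop]
      exact (hOu.card_eq_or_dvd.resolve_left fun h => hOne (eq_bot_of_card_eq O h)).trans
        (card_subgroup_dvd_card O)
    rcases u.2.dvd_mul.mp hOd with huA | huB
    · have hOA : O ≤ A := S.pgroup_le_of_normal hLfac huA _ (Cfsg.Agent.Fitting.pCore_isPGroup _)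
      obtain ⟨s, hs, hsA, hsu⟩ := S.exists_other_prime u
      refine S.not_le_proper (S.normalizer_ne_top hOne
        fun h => S.A_ne_top (top_le_iff.mp (h ▸ hOA))) hs hsA hr hrB (fun x hx ⟨k, hk⟩ => ?_)
        fun x hx ⟨k, hk⟩ => hLO (hCL (mem_primePrimePart hx ?_))
      · refine centralizer_le_normalizer _ (mem_centralizer_iff.mpr fun y hy => ?_)
        obtain ⟨j, hj⟩ := orderOf_of_mem_pgroup hOu hy
        refine (commute_of_mem S.hA (hOA hy) hx ?_).eq
        rw [hj, hk]
        exact Nat.Coprime.pow _ _ ((Nat.coprime_primes u.2 hs).mpr hsu.symm)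
      · rw [hk]
        exact Nat.Coprime.pow_left _ ((Nat.coprime_primes hr ht).mpr hrt)
    · have hOB : O ≤ B := S.symm.pgroup_le_of_normal (fun g hg => by
          obtain ⟨a, ha, haL, b, hb, hbL, he⟩ := hLfac g⁻¹ (inv_mem hg)
          exact ⟨b⁻¹, inv_mem hb, inv_mem hbL, a⁻¹, inv_mem ha, inv_mem haL,
            by rw [← mul_inv_rev, ← he, inv_inv]⟩) huB _ (Cfsg.Agent.Fitting.pCore_isPGroup _)
      refine S.not_B_le (S.normalizer_ne_top hOne
        fun h => S.symm.A_ne_top (top_le_iff.mp (h ▸ hOB)))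
        (le_of_prime_pow_mem fun q hq _ x hx ⟨k, hk⟩ => ?_) (hLO hzL) hz1 hzc
      by_cases hqt : q = t
      · subst hqt
        refine centralizer_le_normalizer _ (mem_centralizer_iff.mpr fun y hy => ?_)
        obtain ⟨j, hj⟩ := orderOf_of_mem_pgroup hOu hy
        refine (commute_of_mem S.hB (hOB hy) hx ?_).eq
        rw [hj, hk]
        exact Nat.Coprime.pow _ _ ((Nat.coprime_primes u.2 hq).mpr hut)
      · refine hLO (hCL (mem_primePrimePart hx ?_))
        rw [hk]
        exact Nat.Coprime.pow_left _ ((Nat.coprime_primes hq ht).mpr hqt)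
  set F := Cfsg.pCore t L with hF
  have hfit : Cfsg.fittingSubgroup L ≤ F := by
    rw [Cfsg.Agent.Fitting.fitting_eq_iSup_pCore]
    refine iSup_le fun u => ?_
    by_cases h : (u : ℕ) = t
    · rw [h]
    · rw [hbot u h]; exact bot_le
  obtain ⟨w, hwB, hwo, -⟩ := S.symm.exists_central hr hrB
  have hwC : w ∈ C := mem_primePrimePart hwB (by
    rw [hwo]; exact (Nat.coprime_primes hr ht).mpr hrt)
  have hFB : F.map L.subtype ≤ B := S.symm.pgroup_le_of_normal (fun g hg => by
      obtain ⟨a, ha, haL, b, hb, hbL, he⟩ := hLfac g⁻¹ (inv_mem hg)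
      exact ⟨b⁻¹, inv_mem hb, inv_mem hbL, a⁻¹, inv_mem ha, inv_mem haL,
        by rw [← mul_inv_rev, ← he, inv_inv]⟩) htB _ (Cfsg.Agent.Fitting.pCore_isPGroup _)
  have hwF : (⟨w, hCL hwC⟩ : L) ∈ F := hfit (Cfsg.Agent.Fitting.centralizer_fitting_le
    (mem_centralizer_iff.mpr fun f hf => Subtype.ext <| mem_centralizer_iff.mp
      (primePrimePart_le_centralizer S.hB hFB ((Cfsg.Agent.Fitting.pCore_isPGroup t).map _) hwC)
      (f : G) (mem_map_of_mem L.subtype (hfit hf))))
  obtain ⟨k, hk⟩ := orderOf_of_mem_pgroup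
    ((Cfsg.Agent.Fitting.pCore_isPGroup t).map L.subtype) (mem_map_of_mem L.subtype hwF)
  rw [coe_subtype, hwo] at hk
  rcases Nat.eq_zero_or_pos k with h0 | h0
  · rw [h0, pow_zero] at hk
    exact hr.ne_one hk
  · exact hrt.symm ((Nat.prime_dvd_prime_iff_eq ht hr).mp (hk ▸ dvd_pow_self t h0.ne'))

theorem centralizer_le {p : ℕ} (hp : p.Prime) {z : G} (hzA : z ∈ A) (hzo : orderOf z = p)
    (hzc : ∀ a ∈ A, a * z = z * a) : centralizer ({z} : Set G) ≤ A := by
  intro x hx
  obtain ⟨a, ha, b, hb, rfl⟩ := S.hAB x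
  have hbz : b ∈ centralizer ({z} : Set G) :=
    (mul_mem_cancel_left (mem_centralizer_singleton_iff.mpr (hzc a ha))).mp hx
  suffices hb1 : b = 1 by rwa [hb1, mul_one]
  by_contra hb1
  obtain ⟨t, ht, htd⟩ := Nat.exists_prime_and_dvd (mt orderOf_eq_one_iff.mp hb1)
  have := Fact.mk ht
  set b' := b ^ (orderOf b / t) with hb'
  have hb'o : orderOf b' = t := orderOf_pow_orderOf_div (orderOf_pos b).ne' htd
  refine S.no_invariant hp hzA hzo hzc ht (htd.trans (Subgroup.orderOf_dvd_natCard B hb))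
    (U := zpowers b') (IsPGroup.of_card (n := 1) (by rw [Nat.card_zpowers, hb'o, pow_one]))
    (fun h => ht.ne_one (by rw [← hb'o, zpowers_eq_bot.mp h, orderOf_one])) ?_
  refine centralizer_le_normalizer _ (mem_centralizer_iff.mpr fun y hy => ?_)
  have h1 : zpowers b' ≤ centralizer ({z} : Set G) := zpowers_le.mpr (pow_mem hbz _)
  exact mem_centralizer_singleton_iff.mp (h1 hy)

/-- A central element of `A` of prime order lies in no other conjugate of `A`. -/
theorem mem_normalizer_of_conj_mem {p : ℕ} (hp : p.Prime) {z : G} (hzA : z ∈ A)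
    (hzo : orderOf z = p) (hzc : ∀ a ∈ A, a * z = z * a) {g : G} (hg : g⁻¹ * z * g ∈ A) :
    g ∈ normalizer (A : Set G) := by
  have step : ∀ {p : ℕ}, p.Prime → ∀ {z : G}, z ∈ A → orderOf z = p →
      (∀ a ∈ A, a * z = z * a) → g⁻¹ * z * g ∈ A →
      ∀ a ∈ A, (orderOf a).Coprime p → g⁻¹ * a * g ∈ A := by
    intro p hp z hzA hzo hzc hg a ha hcop
    have h1 : g * z * g⁻¹ ∈ A := by
      refine S.centralizer_le hp hzA hzo hzc (mem_centralizer_singleton_iff.mpr ?_)
      have h2 := hzc _ hg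
      calc g * z * g⁻¹ * z = g * (z * (g⁻¹ * z * g)) * g⁻¹ := by simp [mul_assoc]
        _ = g * (g⁻¹ * z * g * z) * g⁻¹ := by rw [h2]
        _ = _ := by simp [mul_assoc]
    have h3 : Commute (g * z * g⁻¹) a := commute_of_mem S.hA h1 ha (by
      rw [show orderOf (g * z * g⁻¹) = orderOf z from MulEquiv.orderOf_eq (MulAut.conj g) z, hzo]
      exact hcop.symm)
    refine S.centralizer_le hp hzA hzo hzc (mem_centralizer_singleton_iff.mpr ?_)
    calc g⁻¹ * a * g * z = g⁻¹ * (a * (g * z * g⁻¹)) * g := by simp [mul_assoc]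
      _ = g⁻¹ * (g * z * g⁻¹ * a) * g := by rw [h3.eq]
      _ = _ := by simp [mul_assoc]
  obtain ⟨s, hs, hsA, hsp⟩ := S.exists_other_prime p
  obtain ⟨y, hyA, hyo, hyc⟩ := S.exists_central hs hsA
  have hy : g⁻¹ * y * g ∈ A := step hp hzA hzo hzc hg y hyA (by
    rw [hyo]; exact (Nat.coprime_primes hs hp).mpr hsp)
  have hle : A ≤ A.comap (MulAut.conj g⁻¹).toMonoidHom := by
    refine le_of_prime_pow_mem fun q hq _ a ha ⟨k, hk⟩ => ?_
    rw [mem_comap, MulEquiv.coe_toMonoidHom, MulAut.conj_apply, inv_inv]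
    rcases eq_or_ne q p with rfl | hqp
    · exact step hs hyA hyo hyc hy a ha (by
        rw [hk]; exact Nat.Coprime.pow_left _ ((Nat.coprime_primes hq hs).mpr hsp.symm))
    · exact step hp hzA hzo hzc hg a ha (by
        rw [hk]; exact Nat.Coprime.pow_left _ ((Nat.coprime_primes hq hp).mpr hqp))
  have h := mem_normalizer_iff_map_conj_eq.mpr (eq_of_le_of_card_ge
    (map_le_iff_le_comap.mpr hle) (card_map_of_injective (MulAut.conj g⁻¹).injective).ge)
  simpa using inv_mem h

/-- A solvable subgroup containing a central element of prime order of `A` normalizes `A`. -/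
theorem solvable_le_normalizer {p : ℕ} (hp : p.Prime) {z : G} (hzA : z ∈ A) (hzo : orderOf z = p)
    (hzc : ∀ a ∈ A, a * z = z * a) {X : Subgroup G} [Group.IsSolvable X] (hzX : z ∈ X) :
    X ≤ normalizer (A : Set G) := by
  have := Fact.mk hp
  have hpA : p ∣ Nat.card A := hzo ▸ Subgroup.orderOf_dvd_natCard A hzA
  -- a `p`-group containing `z` lies in `A`
  have hle : ∀ P : Subgroup G, IsPGroup p P → z ∈ P → P ≤ A := by
    intro P hP hzP
    obtain ⟨g, hg⟩ := Cfsg.Agent.S0581.exists_conj_pgroup_le S.hallA hpA hP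
    have hgN : g ∈ normalizer (A : Set G) := by
      have h1 := S.mem_normalizer_of_conj_mem hp hzA hzo hzc (g := g⁻¹) (by simpa using hg z hzP)
      simpa using inv_mem h1
    exact fun x hx => (mem_normalizer_iff.mp hgN x).mpr (hg x hx)
  set zz : X := ⟨z, hzX⟩ with hzz
  have hzzo : orderOf zz = p := by rw [hzz, Subgroup.orderOf_mk, hzo]
  have hcent : ∀ u : Nat.Primes,
      Cfsg.pCore (u : ℕ) X ≤ centralizer ({zz} : Set X) := by
    intro u
    have := Fact.mk u.2
    set O := (Cfsg.pCore (u : ℕ) X).map X.subtype with hO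
    have hOu : IsPGroup (u : ℕ) O := (Cfsg.Agent.Fitting.pCore_isPGroup _).map _
    have hzO : z ∈ normalizer (O : Set G) := by
      refine mem_normalizer_iff_map_conj_eq.mpr (eq_of_le_of_card_ge ?_
        (card_map_of_injective (MulAut.conj z).injective).ge)
      rintro _ ⟨_, ⟨x, hx, rfl⟩, rfl⟩
      exact ⟨_, (Cfsg.Agent.Fitting.pCore_normal _).conj_mem x hx zz, rfl⟩
    suffices hmain : z ∈ centralizer (O : Set G) from fun x hx =>
      mem_centralizer_singleton_iff.mpr
        (Subtype.ext (mem_centralizer_iff.mp hmain x (mem_map_of_mem X.subtype hx)))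
    by_cases hOne : O = ⊥
    · exact mem_centralizer_iff.mpr fun x hx => by
        rw [hOne, SetLike.mem_coe, mem_bot] at hx; simp [hx]
    have huG : (u : ℕ) ∣ Nat.card A * Nat.card B := by
      rw [← card_eq_mul S.hAB S.hcop]
      exact (hOu.card_eq_or_dvd.resolve_left fun h => hOne (eq_bot_of_card_eq O h)).trans
        (card_subgroup_dvd_card O)
    rcases u.2.dvd_mul.mp huG with huA | huB
    · rcases eq_or_ne (u : ℕ) p with hup | hup
      · have hn : zpowers z ≤ normalizer (O : Set G) := zpowers_le.mpr hzO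
        have hPg : IsPGroup p ↥(O ⊔ zpowers z) :=
          (hup ▸ hOu).to_sup_of_normal_left'
            (IsPGroup.of_card (n := 1) (by rw [Nat.card_zpowers, hzo, pow_one])) hn
        have hPA := hle _ hPg (mem_sup_right (mem_zpowers z))
        exact mem_centralizer_iff.mpr fun x hx => hzc x (hPA (mem_sup_left hx))
      · exact Cfsg.Agent.S0581.mem_centralizer_of_normalizes S.hA S.hallA hup.symm huA hpA hOu
          (j := 1) (by rw [hzo, pow_one]) hzO
    · exact (S.no_invariant hp hzA hzo hzc u.2 huB hOu hOne hzO).elim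
  set F := Cfsg.fittingSubgroup X with hF
  have hzF : zz ∈ F := Cfsg.Agent.Fitting.centralizer_fitting_le (by
    have h1 : F ≤ centralizer ({zz} : Set X) := by
      rw [hF, Cfsg.Agent.Fitting.fitting_eq_iSup_pCore]
      exact iSup_le hcent
    exact mem_centralizer_iff.mpr fun f hf => mem_centralizer_singleton_iff.mp (h1 hf))
  have hzp : zz ∈ Cfsg.pCore p X := by
    have hFn : Group.IsNilpotent F := Cfsg.Agent.Fitting.fitting_isNilpotent
    let P : Sylow p F := default
    have hPc : (P : Subgroup F).Characteristic := Sylow.characteristic_of_normal P inferInstance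
    refine Cfsg.Agent.Fitting.le_pCore (N := (P : Subgroup F).map F.subtype) inferInstance
      (P.2.map _) ⟨⟨zz, hzF⟩, ?_, rfl⟩
    exact Cfsg.Agent.Transfer.nilpotent_mem_sylow hFn P (k := 1)
      (by rw [Subgroup.orderOf_mk, hzzo, pow_one])
  have hOA : (Cfsg.pCore p X).map X.subtype ≤ A :=
    hle _ ((Cfsg.Agent.Fitting.pCore_isPGroup p).map _) ⟨zz, hzp, rfl⟩
  intro x hx
  have h1 : x * z * x⁻¹ ∈ A :=
    hOA ⟨_, (Cfsg.Agent.Fitting.pCore_normal p).conj_mem zz hzp ⟨x, hx⟩, rfl⟩
  have h2 := S.mem_normalizer_of_conj_mem hp hzA hzo hzc (g := x⁻¹) (by simpa using h1)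
  simpa using inv_mem h2

theorem centralizer_factorized {y : G} (hy : y ∈ B) (hyN : y ∈ normalizer (A : Set G)) :
    ∀ g ∈ centralizer ({y} : Set G), ∃ a ∈ A, a ∈ centralizer ({y} : Set G) ∧
      ∃ b ∈ B, b ∈ centralizer ({y} : Set G) ∧ g = a * b := by
  intro g hg
  obtain ⟨a, ha, b, hb, rfl⟩ := S.hAB g
  have hgy := mem_centralizer_singleton_iff.mp hg
  have h1 : b * y * b⁻¹ = a⁻¹ * y * a := by
    calc b * y * b⁻¹ = a⁻¹ * (a * b * y) * b⁻¹ := by simp [mul_assoc]
      _ = a⁻¹ * (y * (a * b)) * b⁻¹ := by rw [hgy]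
      _ = _ := by simp [mul_assoc]
  have h2 : a⁻¹ * y * a * y⁻¹ ∈ A ⊓ B := by
    refine mem_inf.mpr ⟨?_, by rw [← h1]; exact mul_mem (mul_mem (mul_mem hb hy) (inv_mem hb)) (inv_mem hy)⟩
    have h3 : y * a * y⁻¹ ∈ A := (mem_normalizer_iff.mp hyN a).mp ha
    simpa [mul_assoc] using mul_mem (inv_mem ha) h3
  rw [(disjoint_of_coprime_natCard S.hcop : Disjoint A B).eq_bot, mem_bot,
    mul_inv_eq_one] at h2
  have hac : a ∈ centralizer ({y} : Set G) := by
    refine mem_centralizer_singleton_iff.mpr ?_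
    calc a * y = a * (a⁻¹ * y * a) := by rw [h2]
      _ = y * a := by simp [mul_assoc]
  exact ⟨a, ha, hac, b, hb, (mul_mem_cancel_left hac).mp hg, rfl⟩

theorem centralizer_le_normalizer_B {y : G} (hy : y ∈ B) (hy1 : y ≠ 1)
    (hyN : y ∈ normalizer (A : Set G)) :
    centralizer ({y} : Set G) ≤ normalizer (B : Set G) := by
  have := S.ih _ (S.centralizer_ne_top hy1) (S.centralizer_factorized hy hyN)
  obtain ⟨r, hr, hrB⟩ := Nat.exists_prime_and_dvd
    (show Nat.card B ≠ 1 from fun h => S.symm.A_ne_bot (eq_bot_of_card_eq B h))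
  obtain ⟨w, hw, hwo, hwc⟩ := S.symm.exists_central hr hrB
  exact S.symm.solvable_le_normalizer hr hw hwo hwc
    (mem_centralizer_singleton_iff.mpr (hwc y hy).symm)

theorem centralizer_le_normalizer_A {p : ℕ} (hp : p.Prime) {a : G} (ha : a ∈ A)
    (hao : orderOf a = p) : centralizer ({a} : Set G) ≤ normalizer (A : Set G) := by
  have := Fact.mk hp
  have ha1 : a ≠ 1 := fun h => hp.ne_one (by rw [← hao, h, orderOf_one])
  set M := normalizer (A : Set G) with hM
  have hMtop : M ≠ ⊤ := S.normalizer_ne_top S.A_ne_bot S.A_ne_top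
  by_cases hcase : ∃ x ∈ M, x ∈ centralizer ({a} : Set G) ∧ (orderOf x).Prime ∧
      orderOf x ∣ Nat.card B
  · obtain ⟨x, hxM, hxa, hxp, hxB⟩ := hcase
    have hAM : A ≤ M := le_normalizer
    have : Group.IsSolvable M := S.solvable_of_le hMtop hAM
    have hprod : IsProd (A.subgroupOf M) (B.subgroupOf M) := fun g => by
      obtain ⟨α, hα, β, hβ, he⟩ := S.hAB g
      exact ⟨⟨α, hAM hα⟩, hα, ⟨β, (mul_mem_cancel_left (hAM hα)).mp (he ▸ g.2)⟩, hβ,
        Subtype.ext he⟩
    have hd : Nat.card (B.subgroupOf M) ∣ Nat.card B := by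
      rw [← card_map_of_injective M.subtype_injective, subgroupOf_map_subtype]
      exact card_dvd_of_le inf_le_left
    have hc : (Nat.card (A.subgroupOf M)).Coprime (Nat.card (B.subgroupOf M)) := by
      rw [Cfsg.Agent.Solvable.card_subgroupOf hAM]
      exact S.hcop.coprime_dvd_right hd
    obtain ⟨m, hm⟩ := Cfsg.Agent.Solvable.le_conj_hall
      ((card_eq_mul hprod hc).trans (mul_comm _ _)) hc.symm (B.subgroupOf M)
      (zpowers (⟨x, hxM⟩ : M)) rfl (by
        rw [Nat.card_zpowers, Subgroup.orderOf_mk, Cfsg.Agent.Solvable.card_subgroupOf hAM]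
        exact S.hcop.symm.coprime_dvd_left hxB)
    have hy := (mem_conj_smul.mp (hm (mem_zpowers _)))
    set y : G := (m : G)⁻¹ * x * m with hydef
    have hyB : y ∈ B := hy
    have hyM : y ∈ M := mul_mem (mul_mem (inv_mem m.2) hxM) m.2
    have hy1 : y ≠ 1 := by
      intro h
      have hx1 : x = 1 := by
        have h' := congrArg (fun t => (m : G) * t * (m : G)⁻¹) h
        simpa [hydef, mul_assoc] using h'
      rw [hx1, orderOf_one] at hxp
      exact Nat.not_prime_one hxp
    set a' : G := (m : G)⁻¹ * a * m with ha'def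
    have ha'A : a' ∈ A := by
      simpa [ha'def] using (mem_normalizer_iff.mp (inv_mem m.2) a).mp ha
    have ha'y : a' ∈ centralizer ({y} : Set G) := by
      refine mem_centralizer_singleton_iff.mpr ?_
      have h1 := mem_centralizer_singleton_iff.mp hxa
      calc a' * y = (m : G)⁻¹ * (a * x) * m := by simp [ha'def, hydef, mul_assoc]
        _ = (m : G)⁻¹ * (x * a) * m := by rw [h1]
        _ = _ := by simp [ha'def, hydef, mul_assoc]
    have ha'L : a' ∈ normalizer (B : Set G) := S.centralizer_le_normalizer_B hyB hy1 hyM ha'y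
    have ha'1 : a' ≠ 1 := fun h => ha1 (by
      have h' := congrArg (fun t => (m : G) * t * (m : G)⁻¹) h
      simpa [ha'def, mul_assoc] using h')
    have hle := S.symm.centralizer_le_normalizer_B ha'A ha'1 ha'L
    intro g hg
    have h1 : (m : G)⁻¹ * g * m ∈ centralizer ({a'} : Set G) := by
      refine mem_centralizer_singleton_iff.mpr ?_
      have h2 := mem_centralizer_singleton_iff.mp hg
      calc (m : G)⁻¹ * g * m * a' = (m : G)⁻¹ * (g * a) * m := by simp [ha'def, mul_assoc]
        _ = (m : G)⁻¹ * (a * g) * m := by rw [h2]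
        _ = _ := by simp [ha'def, mul_assoc]
    simpa [mul_assoc] using mul_mem (mul_mem m.2 (hle h1)) (inv_mem m.2)
  · set E := centralizer ({a} : Set G) with hE
    have hEM : ∀ x ∈ E, x ∈ M → x ∈ A := by
      intro x hxE hxM
      refine S.mem_of_mem_normalizer hxM ?_
      by_contra hnc
      obtain ⟨t, ht, htx, htB⟩ := Nat.Prime.not_coprime_iff_dvd.mp hnc
      exact hcase ⟨x ^ (orderOf x / t), pow_mem hxM _, pow_mem hxE _,
        by rw [orderOf_pow_orderOf_div (orderOf_pos x).ne' htx]; exact ht,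
        by rw [orderOf_pow_orderOf_div (orderOf_pos x).ne' htx]; exact htB⟩
    set H := A.subgroupOf E with hH
    have hHn : Group.IsNilpotent H :=
      Group.nilpotent_of_mulEquiv (_h := Cfsg.Agent.Fitting.isNilpotent_of_le S.hA
        (inf_le_left : A ⊓ E ≤ A))
        ((MulEquiv.subgroupCongr (subgroupOf_map_subtype A E).symm).trans
          (H.equivMapOfInjective E.subtype E.subtype_injective).symm)
    have haE : a ∈ E := mem_centralizer_singleton_iff.mpr rfl
    have hzH : ∀ z ∈ A, (∀ x ∈ A, x * z = z * x) → z ∈ E := fun z _ hzc =>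
      mem_centralizer_singleton_iff.mpr (hzc a ha).symm
    have hdvdH : ∀ {z : G} {q : ℕ} (hz : z ∈ A) (hzE : z ∈ E), orderOf z = q →
        q ∣ Nat.card H := by
      intro z q hz hzE hzo
      have h1 := Subgroup.orderOf_dvd_natCard H (show (⟨z, hzE⟩ : E) ∈ H from hz)
      rwa [Subgroup.orderOf_mk, hzo] at h1
    have hnot : ∀ t : ℕ, t.Prime → ∀ P : Sylow t E, (P : Subgroup E) ≠ H := by
      intro t ht P hPH
      have := Fact.mk ht
      obtain ⟨s, hs, hsA, hsp⟩ := S.exists_other_prime p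
      obtain ⟨z, hz, hzo, hzc⟩ := S.exists_central hs hsA
      obtain ⟨k, hk⟩ := IsPGroup.iff_card.mp (hPH ▸ P.2 : IsPGroup t H)
      have e1 := (Nat.prime_dvd_prime_iff_eq hp ht).mp
        (hp.dvd_of_dvd_pow (hk ▸ hdvdH ha haE hao))
      have e2 := (Nat.prime_dvd_prime_iff_eq hs ht).mp
        (hs.dvd_of_dvd_pow (hk ▸ hdvdH hz (hzH z hz hzc) hzo))
      exact hsp (e2.trans e1.symm)
    have hnorm : ∀ q : ℕ, q.Prime → q ∣ Nat.card H → ∀ P : Sylow q H,
        normalizer (((P : Subgroup H).map H.subtype : Subgroup E) : Set E) = H := by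
      intro q hq hqH P
      have := Fact.mk hq
      refine le_antisymm (fun x hx => ?_) ?_
      · have hqA : q ∣ Nat.card A := by
          refine hqH.trans ?_
          rw [hH, ← card_map_of_injective E.subtype_injective, subgroupOf_map_subtype]
          exact card_dvd_of_le inf_le_left
        obtain ⟨z, hz, hzo, hzc⟩ := S.exists_central hq hqA
        have hzP : (⟨z, hzH z hz hzc⟩ : E) ∈ (P : Subgroup H).map H.subtype :=
          ⟨⟨⟨z, hzH z hz hzc⟩, hz⟩, Cfsg.Agent.Transfer.nilpotent_mem_sylow hHn P (k := 1)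
            (by rw [← Subgroup.orderOf_coe, ← Subgroup.orderOf_coe, pow_one]; exact hzo), rfl⟩
        have h1 := map_subtype_le _ ((mem_normalizer_iff.mp hx _).mp hzP)
        have h2 : (x : G) * z * (x : G)⁻¹ ∈ A := h1
        have h3 := S.mem_normalizer_of_conj_mem hq hz hzo hzc (g := (x : G)⁻¹) (by simpa using h2)
        exact hEM x x.2 (by simpa using inv_mem h3)
      · intro x hx
        have hPn : (P : Subgroup H).Normal := inferInstance
        refine mem_normalizer_iff_map_conj_eq.mpr (eq_of_le_of_card_ge ?_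
          (card_map_of_injective (MulAut.conj x).injective).ge)
        rintro _ ⟨_, ⟨y, hy, rfl⟩, rfl⟩
        exact ⟨⟨x, hx⟩ * y * ⟨x, hx⟩⁻¹, hPn.conj_mem y hy _, rfl⟩
    obtain ⟨K, hKn, hKc⟩ := Cfsg.Agent.S0558.result H hnot hnorm
    by_cases hKbot : K = ⊥
    · intro x hx
      have hHtop : H = ⊤ := by rw [← hKc.sup_eq_top, hKbot, bot_sup_eq]
      exact le_normalizer (show x ∈ A from (hHtop.ge (mem_top (⟨x, hx⟩ : E)) : _))
    exfalso
    obtain ⟨t, ht, htK⟩ := Nat.exists_prime_and_dvd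
      (show Nat.card K ≠ 1 from fun h => hKbot (eq_bot_of_card_eq K h))
    have := Fact.mk ht
    have hKG : t ∣ Nat.card A * Nat.card B := by
      rw [← card_eq_mul S.hAB S.hcop]
      exact htK.trans ((card_subgroup_dvd_card K).trans (card_subgroup_dvd_card E))
    have htA : ¬ t ∣ Nat.card A := by
      intro htA
      obtain ⟨z, hz, hzo, hzc⟩ := S.exists_central ht htA
      obtain ⟨R, hR⟩ := (IsPGroup.of_card (n := 1) (p := t) (by
        rw [Nat.card_zpowers, Subgroup.orderOf_mk, hzo, pow_one]) :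
          IsPGroup t (zpowers (⟨z, hzH z hz hzc⟩ : E))).exists_le_sylow
      have hzR : z ∈ (R : Subgroup E).map E.subtype :=
        ⟨⟨z, hzH z hz hzc⟩, hR (mem_zpowers _), rfl⟩
      obtain ⟨g, hg⟩ := Cfsg.Agent.S0581.exists_conj_pgroup_le S.hallA htA (R.2.map E.subtype)
      have hgN := S.mem_normalizer_of_conj_mem ht hz hzo hzc (g := g⁻¹)
        (by simpa using hg z hzR)
      have hRH : (R : Subgroup E) ≤ H := fun r hr =>
        (mem_normalizer_iff.mp (by simpa using inv_mem hgN : g ∈ normalizer (A : Set G)) _).mpr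
          (hg _ (mem_map_of_mem E.subtype hr))
      have h1 := Cfsg.Agent.Solvable.card_sup_mul_card_inf (R : Subgroup E) K
      have h2 : (R : Subgroup E) ⊓ K = ⊥ :=
        le_bot_iff.mp ((inf_le_inf_right K hRH).trans (hKc.symm.disjoint.eq_bot).le)
      rw [h2, card_bot, mul_one] at h1
      have h3 : Nat.card R * t ∣ Nat.card E :=
        (mul_dvd_mul_left _ htK).trans (h1.symm.dvd.trans (card_subgroup_dvd_card _))
      rw [← (R : Subgroup E).card_mul_index] at h3
      exact R.not_dvd_index (Nat.dvd_of_mul_dvd_mul_left Nat.card_pos h3)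
    have htB := (ht.dvd_mul.mp hKG).resolve_left htA
    obtain ⟨s, hs, hsA, -⟩ := S.exists_other_prime p
    have := Fact.mk hs
    obtain ⟨z, hz, hzo, hzc⟩ := S.exists_central hs hsA
    set zz : E := ⟨z, hzH z hz hzc⟩ with hzz
    have hsK : ¬ s ∣ Nat.card K := by
      intro hsK
      -- `K` meets `A` trivially and `K` is normal
      obtain ⟨R, hR⟩ := (IsPGroup.of_card (n := 1) (p := s) (by
        rw [Nat.card_zpowers, Subgroup.orderOf_mk, hzo, pow_one]) :
          IsPGroup s (zpowers zz)).exists_le_sylow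
      have hzR : z ∈ (R : Subgroup E).map E.subtype := ⟨zz, hR (mem_zpowers _), rfl⟩
      obtain ⟨g, hg⟩ := Cfsg.Agent.S0581.exists_conj_pgroup_le S.hallA hsA (R.2.map E.subtype)
      have hgN := S.mem_normalizer_of_conj_mem hs hz hzo hzc (g := g⁻¹)
        (by simpa using hg z hzR)
      have hRH : (R : Subgroup E) ≤ H := fun r hr =>
        (mem_normalizer_iff.mp (by simpa using inv_mem hgN : g ∈ normalizer (A : Set G)) _).mpr
          (hg _ (mem_map_of_mem E.subtype hr))
      have h1 := Cfsg.Agent.Solvable.card_sup_mul_card_inf (R : Subgroup E) K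
      have h2 : (R : Subgroup E) ⊓ K = ⊥ :=
        le_bot_iff.mp ((inf_le_inf_right K hRH).trans (hKc.symm.disjoint.eq_bot).le)
      rw [h2, card_bot, mul_one] at h1
      have h3 : Nat.card R * s ∣ Nat.card E :=
        (mul_dvd_mul_left _ hsK).trans (h1.symm.dvd.trans (card_subgroup_dvd_card _))
      rw [← (R : Subgroup E).card_mul_index] at h3
      exact R.not_dvd_index (Nat.dvd_of_mul_dvd_mul_left Nat.card_pos h3)
    let φ : zpowers zz →* MulAut K := MulAut.conjNormal.comp (zpowers zz).subtype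
    let _ : MulAction (zpowers zz) (Sylow t K) := MulAction.compHom (Sylow t K) φ
    have hzg : IsPGroup s (zpowers zz) :=
      IsPGroup.of_card (n := 1) (by rw [Nat.card_zpowers, hzz, Subgroup.orderOf_mk, hzo, pow_one])
    have hns : ¬ s ∣ Nat.card (Sylow t K) := fun h => hsK (by
      rw [Sylow.card_eq_index_normalizer (default : Sylow t K)] at h
      exact h.trans (index_dvd_card _))
    obtain ⟨T, hT⟩ := hzg.nonempty_fixed_point_of_prime_not_dvd_card (Sylow t K) hns
    have hfix : φ ⟨zz, mem_zpowers zz⟩ • T = T := hT ⟨zz, mem_zpowers zz⟩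
    refine S.no_invariant hs hz hzo hzc ht htB
      (U := ((T : Subgroup K).map K.subtype).map E.subtype) ((T.2.map _).map _) ?_ ?_
    · rw [Ne, map_eq_bot_iff_of_injective _ E.subtype_injective,
        map_eq_bot_iff_of_injective _ K.subtype_injective]
      exact T.ne_bot_of_dvd_card htK
    · refine mem_normalizer_iff_map_conj_eq.mpr (eq_of_le_of_card_ge ?_
        (card_map_of_injective (MulAut.conj z).injective).ge)
      rintro _ ⟨_, ⟨_, ⟨x, hx, rfl⟩, rfl⟩, rfl⟩
      have h1 : MulAut.conjNormal zz x ∈ (T : Subgroup K) := by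
        have h2 : MulAut.conjNormal zz x ∈
            ((φ ⟨zz, mem_zpowers zz⟩ • T : Sylow t K) : Subgroup K) := ⟨x, hx, rfl⟩
        rwa [hfix] at h2
      exact ⟨_, ⟨_, h1, rfl⟩, rfl⟩

/-- `A` is a trivial intersection subgroup. -/
theorem mem_normalizer_of_conj {a : G} (ha : a ∈ A) (ha1 : a ≠ 1) {g : G}
    (hg : g * a * g⁻¹ ∈ A) : g ∈ normalizer (A : Set G) := by
  obtain ⟨p, hp, hpd⟩ := Nat.exists_prime_and_dvd (mt orderOf_eq_one_iff.mp ha1)
  set a' := a ^ (orderOf a / p) with ha'
  have ha'o : orderOf a' = p := orderOf_pow_orderOf_div (orderOf_pos a).ne' hpd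
  have ha'A : a' ∈ A := pow_mem ha _
  have hga' : g * a' * g⁻¹ ∈ A := by rw [ha', ← conj_pow]; exact pow_mem hg _
  obtain ⟨z, hz, hzo, hzc⟩ := S.exists_central hp (hpd.trans (Subgroup.orderOf_dvd_natCard A ha))
  have h1 : g⁻¹ * z * g ∈ centralizer ({a'} : Set G) := by
    refine mem_centralizer_singleton_iff.mpr ?_
    have h2 := hzc _ hga'
    calc g⁻¹ * z * g * a' = g⁻¹ * (z * (g * a' * g⁻¹)) * g := by simp [mul_assoc]
      _ = g⁻¹ * (g * a' * g⁻¹ * z) * g := by rw [h2]
      _ = _ := by simp [mul_assoc]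
  refine S.mem_normalizer_of_conj_mem hp hz hzo hzc
    (S.mem_of_mem_normalizer (S.centralizer_le_normalizer_A hp ha'A ha'o h1) ?_)
  rw [show orderOf (g⁻¹ * z * g) = orderOf z from by
    simpa using MulEquiv.orderOf_eq (MulAut.conj g⁻¹) z, hzo]
  exact S.coprime_B hp (hpd.trans (Subgroup.orderOf_dvd_natCard A ha))

theorem false : False := by
  classical
  set M := normalizer (A : Set G) with hM
  set L := normalizer (B : Set G) with hL
  set W := M ⊓ L with hW
  set V := A ⊓ L with hV
  set Y := B ⊓ M with hY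
  have hcop := S.hcop
  have hAB1 : A ⊓ B = ⊥ := (disjoint_of_coprime_natCard hcop : Disjoint A B).eq_bot
  have hVY : ∀ v ∈ V, ∀ y ∈ Y, v * y = y * v := by
    intro v hv y hy
    have h1 : v * y * v⁻¹ * y⁻¹ ∈ A ⊓ B := by
      refine mem_inf.mpr ⟨?_, mul_mem ((mem_normalizer_iff.mp hv.2 y).mp hy.1) (inv_mem hy.1)⟩
      simpa [mul_assoc] using mul_mem hv.1 ((mem_normalizer_iff.mp hy.2 v⁻¹).mp (inv_mem hv.1))
    rw [hAB1, mem_bot, mul_inv_eq_one, mul_inv_eq_iff_eq_mul] at h1
    exact h1
  have cM : Nat.card M = Nat.card A * Nat.card Y := by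
    have h := Cfsg.Agent.S0560.card_mul_mul_card_inf A Y
    have hi : A ⊓ Y = ⊥ := le_bot_iff.mp ((inf_le_inf_left A inf_le_left).trans hAB1.le)
    have hset : (A : Set G) * (Y : Set G) = M := by
      refine Set.Subset.antisymm ?_ fun g hg => ?_
      · rintro _ ⟨a, ha, y, hy, rfl⟩
        exact mul_mem (le_normalizer ha) hy.2
      · obtain ⟨a, ha, b, hb, rfl⟩ := S.hAB g
        exact ⟨a, ha, b, ⟨hb, (mul_mem_cancel_left (le_normalizer ha)).mp hg⟩, rfl⟩
    rw [hset, hi, card_bot, mul_one] at h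
    exact h
  have cL : Nat.card L = Nat.card V * Nat.card B := by
    have h := Cfsg.Agent.S0560.card_mul_mul_card_inf V B
    have hi : V ⊓ B = ⊥ := le_bot_iff.mp ((inf_le_inf_right B inf_le_left).trans hAB1.le)
    have hset : (V : Set G) * (B : Set G) = L := by
      refine Set.Subset.antisymm ?_ fun g hg => ?_
      · rintro _ ⟨v, hv, b, hb, rfl⟩
        exact mul_mem hv.2 (le_normalizer hb)
      · obtain ⟨a, ha, b, hb, rfl⟩ := S.hAB g
        exact ⟨a, ⟨ha, (mul_mem_cancel_right (le_normalizer hb)).mp hg⟩, b, hb, rfl⟩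
    rw [hset, hi, card_bot, mul_one] at h
    exact h
  have cW : Nat.card W = Nat.card V * Nat.card Y := by
    have h := Cfsg.Agent.S0560.card_mul_mul_card_inf V Y
    have hi : V ⊓ Y = ⊥ := le_bot_iff.mp ((inf_le_inf inf_le_left inf_le_left).trans hAB1.le)
    have hset : (V : Set G) * (Y : Set G) = W := by
      refine Set.Subset.antisymm ?_ fun g hg => ?_
      · rintro _ ⟨v, hv, y, hy, rfl⟩
        exact ⟨mul_mem (le_normalizer hv.1) hy.2, mul_mem hv.2 (le_normalizer hy.1)⟩
      · obtain ⟨a, ha, b, hb, rfl⟩ := S.hAB g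
        exact ⟨a, ⟨ha, (mul_mem_cancel_right (le_normalizer hb)).mp hg.2⟩, b,
          ⟨hb, (mul_mem_cancel_left (le_normalizer ha)).mp hg.1⟩, rfl⟩
    rw [hset, hi, card_bot, mul_one] at h
    exact h
  have hG := card_eq_mul S.hAB hcop
  have hn : M.index * Nat.card Y = Nat.card B := by
    have h := M.card_mul_index
    rw [cM, hG] at h
    refine Nat.eq_of_mul_eq_mul_left (Nat.card_pos (α := A)) ?_
    rw [← h]; ring
  have hm : L.index * Nat.card V = Nat.card A := by
    have h := L.card_mul_index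
    rw [cL, hG] at h
    refine Nat.eq_of_mul_eq_mul_left (Nat.card_pos (α := B)) ?_
    rw [mul_comm (Nat.card B) (Nat.card A), ← h]; ring
  have hw : W.index = M.index * L.index := by
    have h := W.card_mul_index
    rw [cW, hG, ← hm, ← hn] at h
    refine Nat.eq_of_mul_eq_mul_left (Nat.mul_pos (Nat.card_pos (α := V)) (Nat.card_pos (α := Y))) ?_
    rw [h]; ring
  -- the four families of elements
  let α : Type u := PUnit ⊕ ((G ⧸ M) × {a : A // a ≠ 1}) ⊕ ((G ⧸ L) × {b : B // b ≠ 1}) ⊕
    ((G ⧸ W) × ({v : V // v ≠ 1} × {y : Y // y ≠ 1}))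
  let f : α → G := fun
    | .inl _ => 1
    | .inr (.inl q) => MulAut.conj q.1.out (q.2.1 : G)
    | .inr (.inr (.inl q)) => MulAut.conj q.1.out (q.2.1 : G)
    | .inr (.inr (.inr q)) => MulAut.conj q.1.out ((q.2.1.1 : G) * (q.2.2.1 : G))
  have hocA : ∀ x ∈ A, (orderOf x).Coprime (Nat.card B) := fun x hx =>
    hcop.coprime_dvd_left (Subgroup.orderOf_dvd_natCard A hx)
  have hocB : ∀ x ∈ B, (orderOf x).Coprime (Nat.card A) := fun x hx =>
    hcop.symm.coprime_dvd_left (Subgroup.orderOf_dvd_natCard B hx)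
  obtain ⟨e, he1, he0⟩ := Nat.chineseRemainder hcop 1 0
  have hsplit : ∀ v ∈ V, ∀ y ∈ Y, (v * y) ^ e = v := by
    intro v hv y hy
    rw [Commute.mul_pow (hVY v hv y hy)]
    have h1 : v ^ e = v := by
      conv_rhs => rw [← pow_one v]
      exact pow_eq_pow_iff_modEq.mpr (he1.of_dvd (Subgroup.orderOf_dvd_natCard A hv.1))
    have h2 : y ^ e = 1 := orderOf_dvd_iff_pow_eq_one.mp
      ((Subgroup.orderOf_dvd_natCard B hy.1).trans (Nat.modEq_zero_iff_dvd.mp he0))
    rw [h1, h2, mul_one]
  have hone : ∀ (k : G) {x : G}, MulAut.conj k x = 1 → x = 1 := fun k x h =>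
    (MulAut.conj k).injective (h.trans (map_one (MulAut.conj k)).symm)
  have hcoset : ∀ (X : Subgroup G) (p q : G ⧸ X) {x x' : G},
      MulAut.conj p.out x = MulAut.conj q.out x' → q.out⁻¹ * p.out ∈ X →
      p = q ∧ x = x' := by
    intro X p q x x' h hmem
    have hpq : q = p := by
      rw [← q.out_eq', ← p.out_eq']
      exact QuotientGroup.eq.mpr hmem
    subst hpq
    exact ⟨rfl, (MulAut.conj q.out).injective h⟩
  have hconj : ∀ (k l : G) {x x' : G}, MulAut.conj k x = MulAut.conj l x' →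
      (l⁻¹ * k) * x * (l⁻¹ * k)⁻¹ = x' := by
    intro k l x x' h
    simp only [MulAut.conj_apply] at h
    calc (l⁻¹ * k) * x * (l⁻¹ * k)⁻¹ = l⁻¹ * (k * x * k⁻¹) * l := by simp [mul_assoc]
      _ = x' := by rw [h]; simp [mul_assoc]
  -- orders distinguish the families
  have tA : ∀ (k : G) (x : G), x ∈ A → (orderOf (MulAut.conj k x)).Coprime (Nat.card B) :=
    fun k x hx => by rw [MulEquiv.orderOf_eq]; exact hocA x hx
  have tB : ∀ (k : G) (x : G), x ∈ B → (orderOf (MulAut.conj k x)).Coprime (Nat.card A) :=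
    fun k x hx => by rw [MulEquiv.orderOf_eq]; exact hocB x hx
  have tW : ∀ (k : G) (v : V) (y : Y), v ≠ 1 → y ≠ 1 →
      ¬ (orderOf (MulAut.conj k ((v : G) * y))).Coprime (Nat.card B) ∧
      ¬ (orderOf (MulAut.conj k ((v : G) * y))).Coprime (Nat.card A) := by
    intro k v y hv hy
    rw [MulEquiv.orderOf_eq]
    have h1 : ((v : G) * y) ^ e = v := hsplit v v.2 y y.2
    have hv' : orderOf (v : G) ∣ orderOf ((v : G) * y) := by
      have h := orderOf_pow_dvd (x := (v : G) * y) e
      rwa [h1] at h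
    have hy' : orderOf (y : G) ∣ orderOf ((v : G) * y) := by
      refine orderOf_dvd_of_pow_eq_one ?_
      have h2 := pow_orderOf_eq_one ((v : G) * y)
      rw [Commute.mul_pow (hVY v v.2 y y.2), orderOf_dvd_iff_pow_eq_one.mp hv', one_mul] at h2
      exact h2
    refine ⟨fun h => ?_, fun h => ?_⟩
    · exact hy (Subtype.ext (orderOf_eq_one_iff.mp (Nat.eq_one_of_dvd_coprimes h hy'
        (Subgroup.orderOf_dvd_natCard B y.2.1))))
    · exact hv (Subtype.ext (orderOf_eq_one_iff.mp (Nat.eq_one_of_dvd_coprimes h hv'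
        (Subgroup.orderOf_dvd_natCard A v.2.1))))
  have hAxB : ∀ (k l : G) {x x' : G}, x ∈ A → x' ∈ B →
      MulAut.conj k x = MulAut.conj l x' → x = 1 := by
    intro k l x x' hx hx' h
    have h1 := tB l x' hx'
    rw [← h, MulEquiv.orderOf_eq] at h1
    exact orderOf_eq_one_iff.mp
      (Nat.eq_one_of_dvd_coprimes h1 dvd_rfl (Subgroup.orderOf_dvd_natCard A hx))
  have hinj : Function.Injective f := by
    rintro (p | ⟨p, a, ha⟩ | ⟨p, b, hb⟩ | ⟨p, ⟨v, hv⟩, y, hy⟩)
      (q | ⟨q, a', ha'⟩ | ⟨q, b', hb'⟩ | ⟨q, ⟨v', hv'⟩, y', hy'⟩) h <;> simp only [f] at h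
    · rfl
    · exact absurd (Subtype.ext (hone _ h.symm)) ha'
    · exact absurd (Subtype.ext (hone _ h.symm)) hb'
    · exact absurd (h ▸ (by rw [orderOf_one]; exact Nat.coprime_one_left _))
        (tW q.out v' y' hv' hy').1
    · exact absurd (Subtype.ext (hone _ h)) ha
    · have hk : q.out⁻¹ * p.out ∈ M := S.mem_normalizer_of_conj a.2
        (fun he => ha (Subtype.ext he)) (by rw [hconj _ _ h]; exact a'.2)
      obtain ⟨rfl, e2⟩ := hcoset M p q h hk
      obtain rfl : a = a' := Subtype.ext e2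
      rfl
    · exact absurd (Subtype.ext (hAxB _ _ a.2 b'.2 h)) ha
    · exact absurd (h ▸ tA p.out a a.2) (tW q.out v' y' hv' hy').1
    · exact absurd (Subtype.ext (hone _ h)) hb
    · exact absurd (Subtype.ext (hAxB _ _ a'.2 b.2 h.symm)) ha'
    · have hk : q.out⁻¹ * p.out ∈ L := S.symm.mem_normalizer_of_conj b.2
        (fun he => hb (Subtype.ext he)) (by rw [hconj _ _ h]; exact b'.2)
      obtain ⟨rfl, e2⟩ := hcoset L p q h hk
      obtain rfl : b = b' := Subtype.ext e2
      rfl
    · exact absurd (h ▸ tB p.out b b.2) (tW q.out v' y' hv' hy').2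
    · exact absurd (h.symm ▸ (by rw [orderOf_one]; exact Nat.coprime_one_left _))
        (tW p.out v y hv hy).1
    · exact absurd (h.symm ▸ tA q.out a' a'.2) (tW p.out v y hv hy).1
    · exact absurd (h.symm ▸ tB q.out b' b'.2) (tW p.out v y hv hy).2
    · set k := q.out⁻¹ * p.out with hkdef
      have h1 := hconj _ _ h
      have hkv : k * v * k⁻¹ = v' := by
        have h2 := congrArg (· ^ e) h1
        simp only [conj_pow, hsplit _ v.2 _ y.2, hsplit _ v'.2 _ y'.2] at h2
        exact h2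
      have hky : k * y * k⁻¹ = y' := by
        refine mul_left_cancel (a := (v' : G)) ?_
        calc (v' : G) * (k * y * k⁻¹) = k * v * k⁻¹ * (k * y * k⁻¹) := by rw [hkv]
          _ = k * ((v : G) * y) * k⁻¹ := by simp [mul_assoc]
          _ = _ := h1
      have hkW : k ∈ W := mem_inf.mpr
        ⟨S.mem_normalizer_of_conj v.2.1 (fun he => hv (Subtype.ext he)) (by rw [hkv]; exact v'.2.1),
          S.symm.mem_normalizer_of_conj y.2.1 (fun he => hy (Subtype.ext he))
            (by rw [hky]; exact y'.2.1)⟩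
      obtain ⟨rfl, e2⟩ := hcoset W p q h hkW
      have e3 := congrArg (· ^ e) e2
      simp only [hsplit _ v.2 _ y.2, hsplit _ v'.2 _ y'.2] at e3
      obtain rfl : v = v' := Subtype.ext e3
      obtain rfl : y = y' := Subtype.ext (mul_left_cancel e2)
      rfl
  have hcount := Nat.card_le_card_of_injective f hinj
  have hsub : ∀ H : Subgroup G, Nat.card {x : H // x ≠ 1} + 1 = Nat.card H := by
    intro H
    have := Fintype.ofFinite H
    rw [Nat.card_eq_fintype_card, Nat.card_eq_fintype_card, Fintype.card_subtype_compl,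
      Fintype.card_subtype_eq]
    have := Fintype.card_pos (α := H)
    omega
  simp only [α, Nat.card_sum, Nat.card_prod, Nat.card_unique, ← index_eq_card, hw, hG] at hcount
  have hA := hsub A
  have hB := hsub B
  have hV' := hsub V
  have hY' := hsub Y
  rw [← hm] at hA hcount
  rw [← hn] at hB hcount
  rw [← hV'] at hA hcount
  rw [← hY'] at hB hcount
  have hn2 : 2 ≤ M.index := by
    have h1 : M.index ≠ 1 := fun h => S.normalizer_ne_top S.A_ne_bot S.A_ne_top (index_eq_one.mp h)
    have h2 : M.index ≠ 0 := index_ne_zero_of_finite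
    omega
  have hm2 : 2 ≤ L.index := by
    have h1 : L.index ≠ 1 := fun h =>
      S.symm.normalizer_ne_top S.symm.A_ne_bot S.symm.A_ne_top (index_eq_one.mp h)
    have h2 : L.index ≠ 0 := index_ne_zero_of_finite
    omega
  obtain ⟨n', hn'⟩ := Nat.exists_eq_add_of_le hn2
  obtain ⟨m', hm'⟩ := Nat.exists_eq_add_of_le hm2
  rw [hn'] at hcount hB
  rw [hm'] at hcount hA
  nlinarith

end Setup

/-! ### The theorem -/

theorem sup_of_isProd_closed {A B X : Subgroup G} (hAB : IsProd A B) (hX : A ≤ X) :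
    ∀ g ∈ X, ∃ a ∈ A, a ∈ X ∧ ∃ b ∈ B, b ∈ X ∧ g = a * b := fun g hg => by
  obtain ⟨a, ha, b, hb, rfl⟩ := hAB g
  exact ⟨a, ha, hX ha, b, hb, (mul_mem_cancel_left (hX ha)).mp hg, rfl⟩

private theorem kw_aux : ∀ (n : ℕ) (G : Type u) [Group G] [Finite G] (A B : Subgroup G),
    Nat.card G ≤ n → Group.IsNilpotent A → Group.IsNilpotent B → IsProd A B →
    Group.IsSolvable G := by
  intro n
  induction n with
  | zero => intro G _ _ A B hle; exact absurd hle (by have := Nat.card_pos (α := G); omega)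
  | succ n ih =>
    intro G _ _ A B hle hA hB hAB
    by_contra hns
    rcases subsingleton_or_nontrivial G with hs | hnt
    · exact hns inferInstance
    have ihX : ∀ X : Subgroup G, X ≠ ⊤ →
        (∀ g ∈ X, ∃ a ∈ A, a ∈ X ∧ ∃ b ∈ B, b ∈ X ∧ g = a * b) → Group.IsSolvable X := by
      intro X hX h
      have hnil : ∀ C : Subgroup G, Group.IsNilpotent C → Group.IsNilpotent (C.subgroupOf X) :=
        fun C hC => Group.nilpotent_of_mulEquiv (_h := Cfsg.Agent.Fitting.isNilpotent_of_le hC
          (inf_le_left : C ⊓ X ≤ C)) ((MulEquiv.subgroupCongr (subgroupOf_map_subtype C X).symm).trans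
          ((C.subgroupOf X).equivMapOfInjective X.subtype X.subtype_injective).symm)
      refine ih X (A.subgroupOf X) (B.subgroupOf X) ?_ (hnil A hA) (hnil B hB) fun g => ?_
      · have h1 : Nat.card X ≠ Nat.card G := fun h => hX (eq_top_of_card_eq X h)
        have h2 := X.card_le_card_group
        omega
      · obtain ⟨a, ha, haX, b, hb, hbX, he⟩ := h g g.2
        exact ⟨⟨a, haX⟩, ha, ⟨b, hbX⟩, hb, Subtype.ext he⟩
    have ihQ : ∀ N : Subgroup G, ∀ _ : N.Normal, N ≠ ⊥ → Group.IsSolvable (G ⧸ N) := by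
      intro N _ hN
      refine ih (G ⧸ N) (A.map (QuotientGroup.mk' N)) (B.map (QuotientGroup.mk' N)) ?_
        (Cfsg.Agent.Fitting.isNilpotent_map _ hA) (Cfsg.Agent.Fitting.isNilpotent_map _ hB)
        fun q => ?_
      · have h1 : Nat.card N * N.index = Nat.card G := N.card_mul_index
        rw [index_eq_card] at h1
        have h2 : 2 ≤ Nat.card N :=
          Finite.one_lt_card_iff_nontrivial.mpr ((nontrivial_iff_ne_bot N).mpr hN)
        have h3 : 0 < Nat.card (G ⧸ N) := Nat.card_pos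
        nlinarith
      · obtain ⟨g, rfl⟩ := QuotientGroup.mk'_surjective N q
        obtain ⟨a, ha, b, hb, rfl⟩ := hAB g
        exact ⟨_, mem_map_of_mem _ ha, _, mem_map_of_mem _ hb, map_mul _ a b⟩
    have hnsN : ∀ N : Subgroup G, N.Normal → N ≠ ⊥ → ¬ Group.IsSolvable N := by
      intro N hN hne hsol
      have := ihQ N hN hne
      exact hns ((Group.isSolvable_iff_subgroup_quotient N).mpr ⟨hsol, this⟩)
    have hsupA : ∀ N : Subgroup G, N.Normal → N ≠ ⊥ → A ⊔ N = ⊤ := by
      intro N hN hne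
      by_contra htop
      have := ihX (A ⊔ N) htop (sup_of_isProd_closed hAB le_sup_left)
      exact hnsN N hN hne (Group.isSolvable_of_isSolvable_injective
        (inclusion_injective (le_sup_right : N ≤ A ⊔ N)))
    have hsupB : ∀ N : Subgroup G, N.Normal → N ≠ ⊥ → B ⊔ N = ⊤ := by
      intro N hN hne
      by_contra htop
      have := ihX (B ⊔ N) htop fun g hg => by
        obtain ⟨b, hb, hbX, a, ha, haX, he⟩ :=
          sup_of_isProd_closed hAB.symm le_sup_left g⁻¹ (inv_mem hg)
        exact ⟨a⁻¹, inv_mem ha, inv_mem haX, b⁻¹, inv_mem hb, inv_mem hbX,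
          by rw [← mul_inv_rev, ← he, inv_inv]⟩
      exact hnsN N hN hne (Group.isSolvable_of_isSolvable_injective
        (inclusion_injective (le_sup_right : N ≤ B ⊔ N)))
    by_cases hcop : (Nat.card A).Coprime (Nat.card B)
    · have hsimple : ∀ N : Subgroup G, N.Normal → N = ⊥ ∨ N = ⊤ := by
        intro N hN
        by_cases hne : N = ⊥
        · exact .inl hne
        refine .inr (index_eq_one.mp (Nat.eq_one_of_dvd_coprimes hcop ?_ ?_))
        · rw [← relIndex_top_right, ← hsupA N hN hne, relIndex_sup_right]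
          exact relIndex_dvd_card N A
        · rw [← relIndex_top_right, ← hsupB N hN hne, relIndex_sup_right]
          exact relIndex_dvd_card N B
      exact Setup.false ⟨hA, hB, hAB, hcop, hsimple, hns, ihX⟩
    · obtain ⟨p, hp, hpA, hpB⟩ := Nat.Prime.not_coprime_iff_dvd.mp hcop
      have := Fact.mk hp
      obtain ⟨N, hN⟩ := Cfsg.Agent.Fitting.exists_isMinNormal (G := G)
      have := hN.1
      have hCbot : centralizer (N : Set G) = ⊥ := by
        by_contra hne
        obtain ⟨N1, hN1, hN1C⟩ := Cfsg.Agent.Fitting.exists_isMinNormal_le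
          (N := centralizer (N : Set G)) inferInstance hne
        have := hN1.1
        rcases hN.le_or_inf_eq_bot N1 with h | h
        · refine hnsN N hN.1 hN.2.1 (Group.isSolvable_of_comm fun x y => Subtype.ext ?_)
          exact mem_centralizer_iff.mp (hN1C (h y.2)) x x.2
        · have := ihQ N hN.1 hN.2.1
          have := ihQ N1 hN1.1 hN1.2.1
          refine hns (Group.isSolvable_of_isSolvable_injective
            (f := (QuotientGroup.mk' N).prod (QuotientGroup.mk' N1)) ?_)
          rw [injective_iff_map_eq_one]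
          intro x hx
          rw [MonoidHom.prod_apply, Prod.ext_iff] at hx
          have h2 : x ∈ N ⊓ N1 :=
            ⟨(QuotientGroup.eq_one_iff x).mp hx.1, (QuotientGroup.eq_one_iff x).mp hx.2⟩
          rwa [h, mem_bot] at h2
      obtain ⟨P0, Q0, R, hR⟩ := Cfsg.Agent.S0560.result A B hAB p
      set P := (P0 : Subgroup A).map A.subtype with hPdef
      set Q := (Q0 : Subgroup B).map B.subtype with hQdef
      have hP : P ≤ A := map_subtype_le _
      have hQ : Q ≤ B := map_subtype_le _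
      have hPn : (P.subgroupOf A).Normal := by
        rw [show P.subgroupOf A = (P0 : Subgroup A) from
          comap_map_eq_self_of_injective A.subtype_injective _]
        infer_instance
      have hQn : (Q.subgroupOf B).Normal := by
        rw [show Q.subgroupOf B = (Q0 : Subgroup B) from
          comap_map_eq_self_of_injective B.subtype_injective _]
        infer_instance
      have hsurj := QuotientGroup.mk'_surjective N
      have hfull : ∀ C : Subgroup G, C ⊔ N = ⊤ → Function.Surjective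
          ((QuotientGroup.mk' N).comp C.subtype) := by
        intro C hC q
        obtain ⟨g, rfl⟩ := hsurj q
        obtain ⟨c, hc, m, hm, rfl⟩ := mem_sup_of_normal_right.mp (hC.ge (mem_top g))
        exact ⟨⟨c, hc⟩, by simp [(QuotientGroup.eq_one_iff m).mpr hm]⟩
      have hfA := hfull A (hsupA N hN.1 hN.2.1)
      have hfB := hfull B (hsupB N hN.1 hN.2.1)
      have : Group.IsNilpotent (G ⧸ N) := Group.nilpotent_of_surjective _ hfA
      let RQ : Sylow p (G ⧸ N) := R.mapSurjective hsurj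
      have hRQ : (RQ : Subgroup (G ⧸ N)).Normal := inferInstance
      have := RQ.unique_of_normal hRQ
      have hPR : P.map (QuotientGroup.mk' N) = (RQ : Subgroup (G ⧸ N)) := by
        rw [hPdef, map_map]
        exact congrArg Sylow.toSubgroup (Subsingleton.elim (P0.mapSurjective hfA) RQ)
      have hQR : Q.map (QuotientGroup.mk' N) = (RQ : Subgroup (G ⧸ N)) := by
        rw [hQdef, map_map]
        exact congrArg Sylow.toSubgroup (Subsingleton.elim (Q0.mapSurjective hfB) RQ)
      set H := (RQ : Subgroup (G ⧸ N)).comap (QuotientGroup.mk' N) with hH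
      have hHn : H.Normal := hRQ.comap _
      have hHP : P ⊔ N = H := by rw [hH, ← hPR, Cfsg.Agent.Solvable.comap_map_mk']
      have hHQ : Q ⊔ N = H := by rw [hH, ← hQR, Cfsg.Agent.Solvable.comap_map_mk']
      have hRH : (R : Subgroup G) ≤ H := fun x hx => mem_map_of_mem _ hx
      have hNH : N ≤ H := hHP ▸ le_sup_right
      have hPH : P ≤ H := hHP ▸ le_sup_left
      have hQH : Q ≤ H := hHQ ▸ le_sup_left
      have hPne : P ≠ ⊥ := by
        rw [hPdef, Ne, map_eq_bot_iff_of_injective _ A.subtype_injective]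
        exact P0.ne_bot_of_dvd_card hpA
      have hQne : Q ≠ ⊥ := by
        rw [hQdef, Ne, map_eq_bot_iff_of_injective _ B.subtype_injective]
        exact Q0.ne_bot_of_dvd_card hpB
      obtain ⟨K, hK, hKtop, hle'⟩ := Cfsg.Agent.S0566.result (P.subgroupOf H) (Q.subgroupOf H)
        (fun h => hPne (by rw [← map_subgroupOf_eq_of_le hPH, h, Subgroup.map_bot]))
        (fun h => hQne (by rw [← map_subgroupOf_eq_of_le hQH, h, Subgroup.map_bot]))
        fun x => by
          obtain ⟨a, -, hset⟩ := exists_smul_eq_mul hAB hP hPn hQ hQn hR (x : G)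
          have hSH : MulAut.conj a • (R : Subgroup G) ≤ H := by
            rw [← hHn.conj_smul_eq_self a]
            exact pointwise_smul_le_pointwise_smul_iff.mpr hRH
          refine ⟨(MulAut.conj a • (R : Subgroup G)).subgroupOf H, fun h => ?_, ?_⟩
          · have hpg : IsPGroup p ↥(MulAut.conj a • (R : Subgroup G)) := R.2.map _
            have := (hpg.to_le (hNH.trans (subgroupOf_eq_top.mp h))).isNilpotent
            exact hnsN N hN.1 hN.2.1 inferInstance
          · ext y
            have hiff := Set.ext_iff.mp hset (y : G)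
            constructor
            · intro hy
              obtain ⟨u, hu, v, hv, huv⟩ := hiff.mp hy
              have hvH : v ∈ H := by
                have h1 := (pointwise_smul_le_pointwise_smul_iff (a := MulAut.conj (x : G))).mpr hQH hv
                rwa [hHn.conj_smul_eq_self] at h1
              refine ⟨⟨u, hPH hu⟩, hu, ⟨v, hvH⟩, ?_, Subtype.ext huv⟩
              rw [SetLike.mem_coe, mem_conj_smul]
              rw [SetLike.mem_coe, mem_conj_smul] at hv
              exact hv
            · rintro ⟨u, hu, v, hv, rfl⟩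
              refine hiff.mpr ⟨u, hu, v, ?_, rfl⟩
              rw [SetLike.mem_coe, mem_conj_smul] at hv ⊢
              exact hv
      have haux : ∀ C T : Subgroup G, C ⊔ N = ⊤ → T ≤ C → (T.subgroupOf C).Normal → T ≠ ⊥ →
          T ⊔ N = H → T.subgroupOf H ≤ K → False := by
        intro C T hCN hTC hTn hTne hTH hTK
        set W := closure {y : G | ∃ h ∈ H, ∃ x ∈ T, y = h * x * h⁻¹} with hW
        have hTH' : T ≤ H := hTH ▸ le_sup_left
        have hWK : W ≤ K.map H.subtype := by
          rw [hW, closure_le]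
          rintro _ ⟨h, hh, x, hx, rfl⟩
          exact ⟨⟨h, hh⟩ * ⟨x, hTH' hx⟩ * ⟨h, hh⟩⁻¹, hK.conj_mem ⟨x, hTH' hx⟩ (hTK hx) _, rfl⟩
        have hWn : ∀ g : G, (g ∈ C ∨ g ∈ H) → g ∈ normalizer (W : Set G) := by
          intro g hg
          refine mem_normalizer_iff_map_conj_eq.mpr (eq_of_le_of_card_ge ?_
            (card_map_of_injective (MulAut.conj g).injective).ge)
          rw [hW, MonoidHom.map_closure]
          refine closure_mono ?_
          rintro _ ⟨_, ⟨h, hh, x, hx, rfl⟩, rfl⟩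
          rcases hg with hg | hg
          · exact ⟨g * h * g⁻¹, hHn.conj_mem h hh g, g * x * g⁻¹,
              (normal_subgroupOf_iff hTC).mp hTn x g hx hg, by simp [mul_assoc]⟩
          · exact ⟨g * h, mul_mem hg hh, x, hx, by simp [mul_assoc]⟩
        have : W.Normal := by
          rw [← normalizer_eq_top_iff, eq_top_iff, ← hCN, sup_le_iff]
          exact ⟨fun g hg => hWn g (.inl hg), fun g hg => hWn g (.inr (hNH hg))⟩
        have hTW : T ≤ W := fun x hx => subset_closure ⟨1, one_mem _, x, hx, by simp⟩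
        rcases hN.le_or_inf_eq_bot W with h | h
        · refine hKtop (eq_top_iff.mpr fun y _ => ?_)
          obtain ⟨k, hk, hky⟩ := hWK ((hTH ▸ sup_le hTW h : H ≤ W) y.2)
          rwa [Subtype.ext (hky : (k : G) = y)] at hk
        · refine hTne (le_bot_iff.mp (hTW.trans (le_of_le_of_eq ?_ hCbot)))
          exact fun w hw => mem_centralizer_iff.mpr fun m hm =>
            commute_of_normal_of_disjoint N W inferInstance inferInstance (disjoint_iff.mpr h)
              m w hm hw
      rcases hle' with h | h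
      · exact haux A P (hsupA N hN.1 hN.2.1) hP hPn hPne hHP h
      · exact haux B Q (hsupB N hN.1 hN.2.1) hQ hQn hQne hHQ h

/-- The theorem of Kegel and Wielandt. -/
theorem isSolvable_of_nilpotent_product (A B : Subgroup G) (hA : Group.IsNilpotent A)
    (hB : Group.IsNilpotent B) (hAB : IsProd A B) : Group.IsSolvable G :=
  kw_aux (Nat.card G) G A B le_rfl hA hB hAB

end Cfsg.Agent.KegelWielandt
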