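import Cfsg.Agent.S0560
import Cfsg.Agent.S0572
import Cfsg.Agent.Lib.Fitting.Minimal
import Cfsg.Agent.Lib.Fitting.KegelWielandt
import Cfsg.Agent.Lib.Transfer.Hall

/-!
# Derived length of a product of an abelian group and a group of class two
-/

set_option autoImplicit false

open Subgroup Pointwise
open scoped commutatorElement

namespace Cfsg.Agent.AbelianNilpotentProduct

universe u

theorem comm {G : Type*} [Group G] {H : Subgroup G} [IsMulCommutative H] {x y : G}
    (hx : x ∈ H) (hy : y ∈ H) : x * y = y * x :=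
  congrArg Subtype.val (mul_comm' (⟨x, hx⟩ : H) ⟨y, hy⟩)

/-- The abelian factor and the derived subgroup of the nilpotent factor generate a proper
subgroup, unless the abelian factor is everything. -/
theorem eq_top_aux : ∀ (n : ℕ) (G : Type u) [Group G] [Finite G] (A B : Subgroup G)
    [IsMulCommutative A], Nat.card G ≤ n → Group.IsNilpotent B →
    (∀ g : G, ∃ a ∈ A, ∃ b ∈ B, g = a * b) → A ⊔ ⁅B, B⁆ = ⊤ → A = ⊤ := by
  intro n
  induction n with
  | zero => intro G _ _ A B _ h; exact absurd Nat.card_pos (by omega : ¬ 0 < Nat.card G)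
  | succ n ih =>
    intro G _ _ A B _ hn hB hAB htop
    by_contra hA
    have : Nontrivial G := not_subsingleton_iff_nontrivial.mp fun h =>
      hA (Subsingleton.elim _ _)
    have hAnil : Group.IsNilpotent A := Subgroup.nilpotent_iff_lowerCentralSeries.mpr
      ⟨1, Subgroup.lowerCentralSeries_one_eq_bot_iff.mpr inferInstance⟩
    have hsol : Group.IsSolvable G :=
      Cfsg.Agent.KegelWielandt.isSolvable_of_nilpotent_product A B hAnil hB hAB
    -- every minimal normal subgroup supplements `A`
    have hsupp : ∀ N : Subgroup G, Cfsg.Agent.Fitting.IsMinNormal N →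
        ∀ g : G, ∃ a ∈ A, ∃ y ∈ N, g = a * y := by
      intro N hN g
      have hNn := hN.1
      have hlt : Nat.card (G ⧸ N) ≤ n := by
        have h1 := card_eq_card_quotient_mul_card_subgroup N
        have h2 : 1 < Nat.card N := (Subgroup.one_lt_card_iff_ne_bot N).mpr hN.2.1
        have h3 : 0 < Nat.card (G ⧸ N) := Nat.card_pos
        have h4 := Nat.mul_le_mul_left (Nat.card (G ⧸ N)) h2
        omega
      have : IsMulCommutative (A.map (QuotientGroup.mk' N)) := inferInstance
      have hq := ih (G ⧸ N) (A.map (QuotientGroup.mk' N)) (B.map (QuotientGroup.mk' N)) hlt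
        (Group.nilpotent_of_surjective _ (MonoidHom.subgroupMap_surjective _ B))
        (fun g => by
          obtain ⟨g, rfl⟩ := QuotientGroup.mk'_surjective N g
          obtain ⟨a, ha, b, hb, rfl⟩ := hAB g
          exact ⟨_, mem_map_of_mem _ ha, _, mem_map_of_mem _ hb, map_mul _ _ _⟩)
        (by rw [← map_commutator, ← Subgroup.map_sup, htop,
              map_top_of_surjective _ (QuotientGroup.mk'_surjective N)])
      obtain ⟨a, ha, hag⟩ := hq.ge (mem_top (QuotientGroup.mk' N g))
      exact ⟨a, ha, a⁻¹ * g, QuotientGroup.eq.mp hag, (mul_inv_cancel_left a g).symm⟩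
    obtain ⟨N, hN⟩ := Cfsg.Agent.Fitting.exists_isMinNormal (G := G)
    have hNn := hN.1
    have hNab : IsMulCommutative N := hN.isMulCommutative
    have hsN := hsupp N hN
    have hnotle : ∀ M : Subgroup G, Cfsg.Agent.Fitting.IsMinNormal M → ¬ M ≤ A := fun M hM hle =>
      hA (eq_top_iff.mpr fun g _ => by
        obtain ⟨a, ha, y, hy, rfl⟩ := hsupp M hM g
        exact mul_mem ha (hle hy))
    -- `A` meets `N` trivially and acts faithfully
    have hnorm : ∀ K : Subgroup G, (∀ a ∈ A, ∀ x ∈ K, a * x * a⁻¹ ∈ K) →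
        (∀ y ∈ N, ∀ x ∈ K, y * x = x * y) → K.Normal := fun K hKA hKN => ⟨fun x hx g => by
      obtain ⟨a, ha, y, hy, rfl⟩ := hsN g
      have h : a * y * x * (a * y)⁻¹ = a * (y * x * y⁻¹) * a⁻¹ := by simp [mul_assoc]
      rw [h, hKN y hy x hx, mul_inv_cancel_right]
      exact hKA a ha x hx⟩
    have hAN : A ⊓ N = ⊥ := by
      have h1 : (A ⊓ N).Normal := hnorm _
        (fun a ha x hx => by
          rw [comm ha hx.1, mul_inv_cancel_right]; exact hx)
        (fun y hy x hx => comm hy hx.2)
      exact (hN.2.2 _ h1 inf_le_right).resolve_right fun h => hnotle N hN (h.ge.trans inf_le_left)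
    have hfaith : A ⊓ centralizer (N : Set G) = ⊥ := by
      by_contra h0
      have h1 : (A ⊓ centralizer (N : Set G)).Normal := hnorm _
        (fun a ha x hx => by
          rw [comm ha hx.1, mul_inv_cancel_right]; exact hx)
        (fun y hy x hx => mem_centralizer_iff.mp hx.2 y hy)
      obtain ⟨M, hM, hle⟩ := Cfsg.Agent.Fitting.exists_isMinNormal_le h1 h0
      exact hnotle M hM (hle.trans inf_le_left)
    obtain ⟨p, hp, hel⟩ := hN.exists_isElementaryAbelian
    have := Fact.mk hp
    have hNp : IsPGroup p N := Cfsg.Agent.Fitting.isPGroup_of_isElementaryAbelian hel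
    obtain ⟨k, hk⟩ := IsPGroup.iff_card.mp hNp
    have hk0 : k ≠ 0 := fun h => hN.2.1 (eq_bot_of_card_eq N (by rw [hk, h, pow_zero]))
    have hpA : ¬ p ∣ Nat.card A := by
      intro hd
      obtain ⟨⟨a, ha⟩, hao⟩ := exists_prime_orderOf_dvd_card' p hd
      rw [← Subgroup.orderOf_coe] at hao
      change orderOf a = p at hao
      let ρ : G →* MulAut N := MulAut.conjNormal
      have hzp : IsPGroup p (zpowers (ρ a)) := by
        obtain ⟨i, -, hi⟩ := (Nat.dvd_prime_pow hp).mp
          (show orderOf (ρ a) ∣ p ^ 1 by rw [pow_one, ← hao]; exact orderOf_map_dvd ρ a)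
        exact IsPGroup.of_card (n := i) (by rw [Nat.card_zpowers, hi])
      obtain ⟨y, hy, hy1⟩ := hzp.exists_fixed_point_of_prime_dvd_card_of_fixed_point N
        (hk ▸ dvd_pow_self p hk0) (a := (1 : N)) (fun y => map_one (y : MulAut N))
      have hfix : a * (y : G) * a⁻¹ = y := congrArg Subtype.val (hy ⟨ρ a, mem_zpowers _⟩)
      have h1 : (N ⊓ centralizer ({a} : Set G)).Normal := hnorm _
        (fun b hb x hx => mem_inf.mpr ⟨hNn.conj_mem x hx.1 b, mem_centralizer_singleton_iff.mpr (by
          have hax : a * x = x * a := (mem_centralizer_singleton_iff.mp hx.2).symm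
          calc b * x * b⁻¹ * a = b * x * (b⁻¹ * a) := by simp [mul_assoc]
            _ = b * x * (a * b⁻¹) := by rw [comm (inv_mem hb) ha]
            _ = b * (x * a) * b⁻¹ := by simp [mul_assoc]
            _ = b * (a * x) * b⁻¹ := by rw [hax]
            _ = a * (b * x * b⁻¹) := by rw [← mul_assoc b a x, comm hb ha]; simp [mul_assoc])⟩)
        (fun z hz x hx => comm hz hx.1)
      rcases hN.2.2 _ h1 inf_le_left with h | h
      · refine hy1 (Subtype.ext ((eq_bot_iff_forall _).mp h (y : G) ⟨y.2, ?_⟩).symm)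
        exact mem_centralizer_singleton_iff.mpr (mul_inv_eq_iff_eq_mul.mp hfix).symm
      · have ha' : a ∈ A ⊓ centralizer (N : Set G) :=
          ⟨ha, mem_centralizer_iff.mpr fun z hz => mem_centralizer_singleton_iff.mp (h.ge hz).2⟩
        rw [hfaith, mem_bot] at ha'
        rw [ha', orderOf_one] at hao
        exact hp.ne_one hao.symm
    -- cardinalities: `N` is the Sylow subgroup
    have hGcard : Nat.card G = Nat.card A * Nat.card N := by
      have h := Cfsg.Agent.S0560.card_mul_mul_card_inf A N
      have hu : (A : Set G) * (N : Set G) = Set.univ := Set.eq_univ_of_forall fun g => by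
        obtain ⟨a, ha, y, hy, rfl⟩ := hsN g; exact ⟨a, ha, y, hy, rfl⟩
      rwa [hu, Nat.card_congr (Equiv.Set.univ G), hAN, card_bot, mul_one] at h
    have hpN : ∀ x : G, (∃ i, orderOf x = p ^ i) → x ∈ N := by
      rintro x ⟨i, hi⟩
      obtain ⟨a, ha, y, hy, rfl⟩ := hsN x
      have h1 : orderOf (QuotientGroup.mk' N (a * y)) ∣ p ^ i := hi ▸ orderOf_map_dvd _ _
      have h2 : QuotientGroup.mk' N (a * y) = QuotientGroup.mk' N a := by
        rw [map_mul, QuotientGroup.mk'_apply, QuotientGroup.mk'_apply,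
          (QuotientGroup.eq_one_iff y).mpr hy, mul_one]
      rw [h2] at h1
      have h3 : orderOf (QuotientGroup.mk' N a) ∣ Nat.card A :=
        (orderOf_map_dvd _ a).trans (Subgroup.orderOf_dvd_natCard _ ha)
      have h4 := Nat.eq_one_of_dvd_coprimes
        ((hp.coprime_iff_not_dvd.mpr hpA).pow_left i) h1 h3
      rw [orderOf_eq_one_iff, QuotientGroup.mk'_apply, QuotientGroup.eq_one_iff] at h4
      exact mul_mem h4 hy
    have hNB : N ≤ B := by
      obtain ⟨S⟩ : Nonempty (Sylow p B) := inferInstance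
      have hd : Nat.card N ∣ Nat.card B := by
        have h := Cfsg.Agent.S0560.card_mul_mul_card_inf A B
        have hu : (A : Set G) * (B : Set G) = Set.univ := Set.eq_univ_of_forall fun g => by
          obtain ⟨a, ha, b, hb, rfl⟩ := hAB g; exact ⟨a, ha, b, hb, rfl⟩
        rw [hu, Nat.card_congr (Equiv.Set.univ G)] at h
        refine (Nat.Coprime.dvd_mul_left (m := Nat.card A) ?_).mp
          ⟨Nat.card A * Nat.card ↥(A ⊓ B), h.symm.trans ?_⟩
        · rw [hk]; exact (hp.coprime_iff_not_dvd.mpr hpA).pow_left k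
        · rw [hGcard]; ring
      have hSN : (S : Subgroup B).map B.subtype ≤ N := fun x hx => by
        obtain ⟨j, hj⟩ := IsPGroup.iff_orderOf.mp (S.2.map B.subtype) ⟨x, hx⟩
        exact hpN x ⟨j, by rw [← hj, ← Subgroup.orderOf_coe]⟩
      have hge : Nat.card N ≤ Nat.card ((S : Subgroup B).map B.subtype) := by
        rw [card_map_of_injective B.subtype_injective]
        refine Nat.le_of_dvd Nat.card_pos ?_
        rw [S.card_eq_multiplicity, hk]
        exact Nat.pow_dvd_pow p ((hp.pow_dvd_iff_le_factorization Nat.card_pos.ne').mp (hk ▸ hd))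
      rw [← eq_of_le_of_card_ge hSN hge]
      exact map_subtype_le _
    have hBN : B ≤ N := fun b hb => by
      obtain ⟨a, ha, y, hy, rfl⟩ := hsN b
      have haB : a ∈ B := by
        have := mul_mem hb (inv_mem (hNB hy))
        rwa [mul_inv_cancel_right] at this
      have h1 : a ∈ A ⊓ centralizer (N : Set G) := ⟨ha, mem_centralizer_iff.mpr fun z hz => by
        refine congrArg Subtype.val (Cfsg.Agent.Transfer.nilpotent_commute_of_coprime hB
          (x := (⟨z, hNB hz⟩ : B)) (y := ⟨a, haB⟩) ?_).eq
        rw [← Subgroup.orderOf_coe, ← Subgroup.orderOf_coe]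
        refine Nat.Coprime.coprime_dvd_right (Subgroup.orderOf_dvd_natCard _ ha) ?_
        refine Nat.Coprime.coprime_dvd_left (Subgroup.orderOf_dvd_natCard _ hz) ?_
        rw [hk]; exact (hp.coprime_iff_not_dvd.mpr hpA).pow_left k⟩
      rw [hfaith, mem_bot] at h1
      rw [h1, one_mul]
      exact hy
    refine hA (top_le_iff.mp (htop.ge.trans (sup_le le_rfl ?_)))
    refine le_trans ?_ (bot_le : (⊥ : Subgroup G) ≤ A)
    rw [le_bot_iff, commutator_eq_bot_iff_le_centralizer]
    exact fun x hx => mem_centralizer_iff.mpr fun y hy => comm (hBN hy) (hBN hx)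

theorem eq_top_of_sup_commutator {G : Type u} [Group G] [Finite G] (A B : Subgroup G)
    [IsMulCommutative A] (hB : Group.IsNilpotent B)
    (hAB : ∀ g : G, ∃ a ∈ A, ∃ b ∈ B, g = a * b) (h : A ⊔ ⁅B, B⁆ = ⊤) : A = ⊤ :=
  eq_top_aux (Nat.card G) G A B le_rfl hB hAB h

/-- `derivedSeries` of the whole group below that of a subgroup containing one of its terms. -/
theorem derivedSeries_le_map {G : Type*} [Group G] {H : Subgroup G} {i : ℕ}
    (h : derivedSeries G i ≤ H) :
    ∀ j, derivedSeries G (i + j) ≤ (derivedSeries H j).map H.subtype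
  | 0 => by
    rw [add_zero, derivedSeries_zero, ← MonoidHom.range_eq_map, range_subtype]
    exact h
  | j + 1 => by
    rw [← add_assoc, derivedSeries_succ, derivedSeries_succ, map_commutator]
    exact commutator_mono (derivedSeries_le_map h j) (derivedSeries_le_map h j)

theorem isNilpotent_of_commutator_central {G : Type*} [Group G] {B : Subgroup G}
    (hB : ∀ z ∈ ⁅B, B⁆, ∀ b ∈ B, b * z = z * b) : Group.IsNilpotent B := by
  have : Group.IsNilpotent (B ⧸ commutator B) := by
    refine Subgroup.nilpotent_iff_lowerCentralSeries.mpr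
      ⟨1, Subgroup.lowerCentralSeries_one_eq_bot_iff.mpr ⟨⟨fun x y => ?_⟩⟩⟩
    exact mul_comm (G := Abelianization B) x y
  refine Subgroup.isNilpotent_of_ker_le_center (QuotientGroup.mk' (commutator B)) ?_
  rw [QuotientGroup.ker_mk']
  intro z hz
  refine mem_center_iff.mpr fun b => Subtype.ext (hB _ ?_ b b.2)
  rw [← map_subtype_commutator]
  exact mem_map_of_mem _ hz

theorem primeFactorsList_length_lt {d m : ℕ} (hd : d ∣ m) (hdm : d ≠ m) (hm : m ≠ 0) :
    d.primeFactorsList.length < m.primeFactorsList.length := by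
  obtain ⟨c, rfl⟩ := hd
  have hc : 1 < c := by
    rcases Nat.lt_or_ge 1 c with h | h
    · exact h
    · interval_cases c
      · simp at hm
      · simp at hdm
  rw [(Nat.perm_primeFactorsList_mul (left_ne_zero_of_mul hm) (right_ne_zero_of_mul hm)).length_eq,
    List.length_append]
  have : c.primeFactorsList ≠ [] := by
    rw [Ne, Nat.primeFactorsList_eq_nil]
    omega
  have := List.length_pos_iff.mpr this
  omega

/-- Derived length of a product of an abelian group and one of class two. -/
theorem derivedSeries_eq_bot : ∀ (n : ℕ) (G : Type u) [Group G] [Finite G] (A B : Subgroup G)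
    [IsMulCommutative A], (∀ z ∈ ⁅B, B⁆, ∀ b ∈ B, b * z = z * b) →
    (∀ g : G, ∃ a ∈ A, ∃ b ∈ B, g = a * b) →
    (Nat.card (⁅B, B⁆ : Subgroup G)).primeFactorsList.length ≤ n →
    derivedSeries G (2 * (1 + n)) = ⊥ := by
  intro n
  induction n using Nat.strong_induction_on with
  | _ n ih =>
    intro G _ _ A B _ hB hAB hΩ
    by_cases hab : ⁅B, B⁆ = ⊥
    · have : IsMulCommutative B := ⟨⟨fun x y => Subtype.ext
        (mem_centralizer_iff.mp (commutator_eq_bot_iff_le_centralizer.mp hab y.2) x x.2)⟩⟩
      exact le_bot_iff.mp ((derivedSeries_antitone G (by omega : 2 ≤ 2 * (1 + n))).trans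
        (Cfsg.Agent.S0572.result A B hAB).le)
    set C := ⁅B, B⁆ with hC
    set H := A ⊔ C with hH
    have hAH : A ≤ H := le_sup_left
    have hCH : C ≤ H := le_sup_right
    -- the normal closure of `C` lies in `H`
    set M := normalClosure (C : Set G) with hM
    have hMH : M ≤ H := by
      refine (closure_le _).mpr fun x hx => ?_
      obtain ⟨z, hz, hc⟩ := Group.mem_conjugatesOfSet_iff.mp hx
      obtain ⟨g, rfl⟩ := isConj_iff.mp hc
      obtain ⟨a, ha, b, hb, rfl⟩ := hAB g
      have h1 : a * b * z * (a * b)⁻¹ = a * (b * z * b⁻¹) * a⁻¹ := by simp [mul_assoc]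
      rw [SetLike.mem_coe, h1, hB z hz b hb, mul_inv_cancel_right]
      exact mul_mem (mul_mem (hAH ha) (hCH hz)) (inv_mem (hAH ha))
    have h2 : derivedSeries G 2 ≤ H := by
      have : IsMulCommutative (A.map (QuotientGroup.mk' M)) := inferInstance
      have : IsMulCommutative (B.map (QuotientGroup.mk' M)) := by
        refine ⟨⟨fun x y => Subtype.ext ?_⟩⟩
        obtain ⟨_, b, hb, rfl⟩ := x
        obtain ⟨_, b', hb', rfl⟩ := y
        refine (commutatorElement_eq_one_iff_mul_comm.mp ?_)
        rw [← map_commutatorElement, ← MonoidHom.mem_ker, QuotientGroup.ker_mk']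
        exact subset_normalClosure (commutator_mem_commutator hb hb')
      have h := Cfsg.Agent.S0572.result (A.map (QuotientGroup.mk' M))
        (B.map (QuotientGroup.mk' M)) (fun g => by
          obtain ⟨g, rfl⟩ := QuotientGroup.mk'_surjective M g
          obtain ⟨a, ha, b, hb, rfl⟩ := hAB g
          exact ⟨_, mem_map_of_mem _ ha, _, mem_map_of_mem _ hb, map_mul _ _ _⟩)
      rw [← map_derivedSeries_eq (QuotientGroup.mk'_surjective M),
        Subgroup.map_eq_bot_iff, QuotientGroup.ker_mk'] at h
      exact h.trans hMH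
    -- the factorised subgroup `H`
    set A' := A.subgroupOf H with hA'
    set B' := B.subgroupOf H with hB'
    have hA'c : IsMulCommutative A' :=
      ⟨⟨fun x y => Subtype.ext (Subtype.ext (comm x.2 y.2))⟩⟩
    have hD : (⁅B', B'⁆).map H.subtype ≤ C := by
      rw [map_commutator, hB', subgroupOf_map_subtype]
      exact commutator_mono inf_le_left inf_le_left
    have hB'c : ∀ z ∈ ⁅B', B'⁆, ∀ b ∈ B', b * z = z * b := fun z hz b hb =>
      Subtype.ext (hB _ (hD (mem_map_of_mem _ hz)) (b : G) hb)
    have hAB' : ∀ g : H, ∃ a ∈ A', ∃ b ∈ B', g = a * b := fun g => by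
      obtain ⟨a, ha, b, hb, he⟩ := hAB (g : G)
      have hbH : b ∈ H := by
        have := mul_mem (inv_mem (hAH ha)) g.2
        rwa [he, inv_mul_cancel_left] at this
      exact ⟨⟨a, hAH ha⟩, ha, ⟨b, hbH⟩, hb, Subtype.ext he⟩
    have hcard : Nat.card (⁅B', B'⁆ : Subgroup H) = Nat.card ((⁅B', B'⁆).map H.subtype) :=
      (card_map_of_injective H.subtype_injective).symm
    have hne : Nat.card (⁅B', B'⁆ : Subgroup H) ≠ Nat.card C := by
      intro he
      have hDC : (⁅B', B'⁆).map H.subtype = C := eq_of_le_of_card_ge hD (by rw [← hcard, he])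
      have htop : A' ⊔ ⁅B', B'⁆ = ⊤ := by
        apply map_injective H.subtype_injective
        rw [Subgroup.map_sup, hDC, hA', subgroupOf_map_subtype, inf_eq_left.mpr hAH,
          ← MonoidHom.range_eq_map, range_subtype, hH]
      have hA'top := eq_top_of_sup_commutator A' B' (isNilpotent_of_commutator_central hB'c)
        hAB' htop
      have hHA : H ≤ A := subgroupOf_eq_top.mp hA'top
      refine hab ?_
      rw [← hDC]
      refine le_bot_iff.mp (map_le_iff_le_comap.mpr ?_)
      rw [MonoidHom.comap_bot, (MonoidHom.ker_eq_bot_iff _).mpr H.subtype_injective, le_bot_iff,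
        commutator_eq_bot_iff_le_centralizer]
      exact fun x hx => mem_centralizer_iff.mpr fun y hy =>
        Subtype.ext (comm (hHA y.2) (hHA x.2))
    have hdvd : Nat.card (⁅B', B'⁆ : Subgroup H) ∣ Nat.card C := hcard ▸ card_dvd_of_le hD
    have hlt := primeFactorsList_length_lt hdvd hne Nat.card_pos.ne'
    obtain ⟨m, rfl⟩ : ∃ m, n = m + 1 := ⟨n - 1, by omega⟩
    have h3 := ih m (by omega) H A' B' hB'c hAB' (by omega)
    have h4 := derivedSeries_le_map h2 (2 * (1 + m))
    rw [h3, Subgroup.map_bot, le_bot_iff] at h4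
    rw [show 2 * (1 + (m + 1)) = 2 + 2 * (1 + m) by ring]
    exact h4

end Cfsg.Agent.AbelianNilpotentProduct
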