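import Cfsg.Agent.S0560
import Cfsg.Agent.S0572
import Cfsg.Agent.Lib.Fitting.Minimal
import Mathlib.GroupTheory.PGroup
import Mathlib.GroupTheory.Perm.Cycle.Type
import Mathlib.GroupTheory.Nilpotent

/-!
# Products of two abelian groups: a normal subgroup inside a factor
-/

set_option autoImplicit false

open Subgroup Pointwise
open scoped commutatorElement

namespace Cfsg.Agent.AbelianProduct

variable {G : Type*} [Group G]

theorem comm {H : Subgroup G} [IsMulCommutative H] {x y : G} (hx : x ∈ H) (hy : y ∈ H) :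
    x * y = y * x :=
  congrArg Subtype.val (mul_comm' (⟨x, hx⟩ : H) ⟨y, hy⟩)

theorem conj_eq_self {g x : G} : g * x * g⁻¹ = x ↔ g * x = x * g := mul_inv_eq_iff_eq_mul

theorem prod_symm {A B : Subgroup G} (h : ∀ g : G, ∃ a ∈ A, ∃ b ∈ B, g = a * b) :
    ∀ g : G, ∃ b ∈ B, ∃ a ∈ A, g = b * a := fun g => by
  obtain ⟨a, ha, b, hb, he⟩ := h g⁻¹
  exact ⟨b⁻¹, inv_mem hb, a⁻¹, inv_mem ha, by rw [← mul_inv_rev, ← he, inv_inv]⟩

theorem card_eq_of_prod {P Q X : Subgroup G} (hP : P ≤ X) (hQ : Q ≤ X) (hPQ : P ⊓ Q = ⊥)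
    (hX : ∀ x ∈ X, ∃ u ∈ P, ∃ v ∈ Q, x = u * v) : Nat.card X = Nat.card P * Nat.card Q := by
  have h := Cfsg.Agent.S0560.card_mul_mul_card_inf P Q
  have hset : (P : Set G) * (Q : Set G) = (X : Set G) := by
    ext x
    refine ⟨?_, fun hx => ?_⟩
    · rintro ⟨u, hu, v, hv, rfl⟩; exact mul_mem (hP hu) (hQ hv)
    · obtain ⟨u, hu, v, hv, rfl⟩ := hX x hx
      exact ⟨u, hu, v, hv, rfl⟩
  rwa [hset, hPQ, card_bot, mul_one] at h

/-- A nontrivial central element of a product of two abelian groups gives a nontrivial normal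
subgroup inside one of them. -/
theorem exists_normal_of_center {A B : Subgroup G} [IsMulCommutative A] [IsMulCommutative B]
    (hAB : ∀ g : G, ∃ a ∈ A, ∃ b ∈ B, g = a * b) {z : G} (hz : z ∈ center G) (hz1 : z ≠ 1) :
    ∃ N : Subgroup G, N.Normal ∧ N ≠ ⊥ ∧ (N ≤ A ∨ N ≤ B) := by
  obtain ⟨a, ha, b, hb, rfl⟩ := hAB z
  have hnorm : ∀ y : G, y ∈ center G → (zpowers y).Normal := fun y hy =>
    ⟨fun x hx g => by
      have hx' : x ∈ center G := zpowers_le.mpr hy hx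
      rwa [mem_center_iff.mp hx' g, mul_inv_cancel_right]⟩
  have haZ : a ∈ center G := mem_center_iff.mpr fun g => by
    obtain ⟨a', ha', b', hb', rfl⟩ := hAB g
    have h1 : b' * a = a * b' := by
      have := mem_center_iff.mp hz b'
      rw [mul_assoc a b b', comm hb hb', ← mul_assoc a b' b, ← mul_assoc b' a b] at this
      exact mul_right_cancel this
    rw [mul_assoc, h1, ← mul_assoc, comm ha' ha, mul_assoc]
  by_cases ha1 : a = 1
  · refine ⟨zpowers (a * b), hnorm _ hz, zpowers_ne_bot.mpr hz1, .inr (zpowers_le.mpr ?_)⟩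
    rwa [ha1, one_mul]
  · exact ⟨zpowers a, hnorm _ haZ, zpowers_ne_bot.mpr ha1, .inl (zpowers_le.mpr ha)⟩

/-- Itô: a product of two abelian groups has a nontrivial normal subgroup inside a factor. -/
theorem exists_normal_le [Finite G] [Nontrivial G] (A B : Subgroup G) [IsMulCommutative A]
    [IsMulCommutative B] (hAB : ∀ g : G, ∃ a ∈ A, ∃ b ∈ B, g = a * b) :
    ∃ N : Subgroup G, N.Normal ∧ N ≠ ⊥ ∧ (N ≤ A ∨ N ≤ B) := by
  by_contra hno
  have hZ : center G = ⊥ := (eq_bot_iff_forall _).mpr fun z hz => by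
    by_contra h
    exact hno (exists_normal_of_center hAB hz h)
  have hMne : commutator G ≠ ⊥ := fun h => by
    rw [commutator_eq_bot_iff_center_eq_top, hZ] at h
    exact bot_ne_top h
  have hMab : ∀ x ∈ commutator G, ∀ y ∈ commutator G, x * y = y * x := fun x hx y hy => by
    have h2 := Cfsg.Agent.S0572.result A B hAB
    rw [derivedSeries_succ, derivedSeries_one, commutator_eq_bot_iff_le_centralizer] at h2
    exact mem_centralizer_iff.mp (h2 hy) x hx
  obtain ⟨N, hN, hNM⟩ :=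
    Cfsg.Agent.Fitting.exists_isMinNormal_le (N := commutator G) inferInstance hMne
  have hNn : N.Normal := hN.1
  have hNab : IsMulCommutative N :=
    ⟨⟨fun x y => Subtype.ext (hMab x (hNM x.2) y (hNM y.2))⟩⟩
  obtain ⟨p, hp, hel⟩ := hN.exists_isElementaryAbelian
  have := Fact.mk hp
  have hNp : IsPGroup p N := Cfsg.Agent.Fitting.isPGroup_of_isElementaryAbelian hel
  -- the fixed points in `N` of any set form a normal subgroup
  have hK : ∀ S : Set G, (N ⊓ centralizer S).Normal := fun S => ⟨fun x hx g =>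
    mem_inf.mpr ⟨hNn.conj_mem x hx.1 g, mem_centralizer_iff.mpr fun s hs => by
      have hc : g⁻¹ * s * g * s⁻¹ ∈ commutator G := by
        have := commutator_mem_commutator (mem_top g⁻¹) (mem_top s)
        rwa [commutatorElement_def, inv_inv] at this
      have h1 : s * x * s⁻¹ = x := conj_eq_self.mpr (mem_centralizer_iff.mp hx.2 s hs)
      have h2 : g⁻¹ * s * g * s⁻¹ * x * (g⁻¹ * s * g * s⁻¹)⁻¹ = x :=
        conj_eq_self.mpr (hMab _ hc _ (hNM hx.1))
      refine conj_eq_self.mp ?_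
      calc s * (g * x * g⁻¹) * s⁻¹
          = g * (g⁻¹ * s * g * s⁻¹ * (s * x * s⁻¹) * (g⁻¹ * s * g * s⁻¹)⁻¹) * g⁻¹ := by
            simp [mul_assoc]
        _ = g * x * g⁻¹ := by rw [h1, h2]⟩⟩
  have hdich : ∀ (S : Set G) {x : G}, x ∈ N → x ≠ 1 → (∀ s ∈ S, s * x = x * s) →
      ∀ y ∈ N, ∀ s ∈ S, s * y = y * s := by
    intro S x hx hx1 hxS y hy s hs
    rcases hN.2.2 _ (hK S) inf_le_left with h | h
    · exact absurd (mem_bot.mp (h.le ⟨hx, mem_centralizer_iff.mpr hxS⟩)) hx1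
    · exact mem_centralizer_iff.mp (h.ge hy).2 s hs
  have hgen : ∀ P Q : Subgroup G, IsMulCommutative P → IsMulCommutative Q →
      (∀ g : G, ∃ a ∈ P, ∃ b ∈ Q, g = a * b) → (N ≤ P → False) →
      ∀ x ∈ N, (∀ a ∈ P, a * x = x * a) → x = 1 := by
    intro P Q hPc hQc hPQ hPN x hx hxP
    by_contra hx1
    have hall := hdich (P : Set G) hx hx1 hxP
    refine hPN fun n hn => ?_
    obtain ⟨a, ha, b, hb, rfl⟩ := hPQ n
    have hb1 : b ∈ center G := mem_center_iff.mpr fun g => by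
      obtain ⟨a', ha', b', hb', rfl⟩ := hPQ g
      have h1 : a' * b = b * a' := by
        have := hall _ hn a' ha'
        rw [← mul_assoc, comm ha' ha, mul_assoc, mul_assoc a b a'] at this
        exact mul_left_cancel this
      rw [mul_assoc, comm hb' hb, ← mul_assoc, h1, mul_assoc]
    rw [hZ, mem_bot] at hb1
    rwa [hb1, mul_one]
  have hNA := hgen A B ‹_› ‹_› hAB fun h => hno ⟨N, hNn, hN.2.1, .inl h⟩
  have hNB := hgen B A ‹_› ‹_› (prod_symm hAB) fun h => hno ⟨N, hNn, hN.2.1, .inr h⟩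
  have hABbot : A ⊓ B = ⊥ := (eq_bot_iff_forall _).mpr fun z hz => by
    have : z ∈ center G := mem_center_iff.mpr fun g => by
      obtain ⟨a, ha, b, hb, rfl⟩ := hAB g
      rw [mul_assoc, comm hb hz.2, ← mul_assoc, comm ha hz.1, mul_assoc]
    rwa [hZ, mem_bot] at this
  -- the subgroup `X`
  set A1 := A ⊓ (B ⊔ N) with hA1
  set B1 := B ⊓ (A ⊔ N) with hB1
  have hdA : ∀ x ∈ A1 ⊔ N, ∃ a ∈ A1, ∃ n ∈ N, x = a * n := fun x hx => by
    obtain ⟨a, ha, n, hn, rfl⟩ := mem_sup_of_normal_right.mp hx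
    exact ⟨a, ha, n, hn, rfl⟩
  have hdB : ∀ x ∈ B1 ⊔ N, ∃ b ∈ B1, ∃ n ∈ N, x = b * n := fun x hx => by
    obtain ⟨b, hb, n, hn, rfl⟩ := mem_sup_of_normal_right.mp hx
    exact ⟨b, hb, n, hn, rfl⟩
  have hswap : ∀ P Q : Subgroup G, P ⊓ (Q ⊔ N) ≤ Q ⊓ (P ⊔ N) ⊔ N := fun P Q x hx => by
    obtain ⟨b, hb, n, hn, rfl⟩ := mem_sup_of_normal_right.mp hx.2
    refine mul_mem (mem_sup_left ⟨hb, ?_⟩) (mem_sup_right hn)
    have h1 : (b * n) * n⁻¹ ∈ P ⊔ N := mul_mem (mem_sup_left hx.1) (mem_sup_right (inv_mem hn))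
    rwa [mul_inv_cancel_right] at h1
  have hXB : B1 ⊔ N = A1 ⊔ N :=
    le_antisymm (sup_le (hswap B A) le_sup_right) (sup_le (hswap A B) le_sup_right)
  set X := A1 ⊔ N with hX
  have hA1X : A1 ≤ X := le_sup_left
  have hNX : N ≤ X := le_sup_right
  have hB1X : B1 ≤ X := hXB ▸ le_sup_left
  have hcA : Nat.card X = Nat.card A1 * Nat.card N :=
    card_eq_of_prod hA1X hNX
      ((eq_bot_iff_forall _).mpr fun x hx => hNA x hx.2 fun a ha => comm ha hx.1.1) hdA
  have hcB : Nat.card X = Nat.card B1 * Nat.card N :=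
    card_eq_of_prod hB1X hNX
      ((eq_bot_iff_forall _).mpr fun x hx => hNB x hx.2 fun b hb => comm hb hx.1.1)
      (hXB ▸ hdB)
  have hcAB : Nat.card X = Nat.card A1 * Nat.card B1 := by
    refine card_eq_of_prod hA1X hB1X
      (le_bot_iff.mp (hABbot ▸ inf_le_inf inf_le_left inf_le_left)) fun x hx => ?_
    obtain ⟨a1, ha1, n, hn, rfl⟩ := hdA x hx
    obtain ⟨a, ha, b, hb, rfl⟩ := hAB n
    have ha' : a ∈ A1 := mem_inf.mpr ⟨ha, by
      simpa using mul_mem (mem_sup_right hn : a * b ∈ B ⊔ N) (mem_sup_left (inv_mem hb))⟩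
    have hb' : b ∈ B1 := mem_inf.mpr ⟨hb, by
      simpa using mul_mem (mem_sup_left (inv_mem ha) : a⁻¹ ∈ A ⊔ N) (mem_sup_right hn)⟩
    exact ⟨a1 * a, mul_mem ha1 ha', b, hb', (mul_assoc _ _ _).symm⟩
  have hA1B1 : Nat.card A1 = Nat.card B1 :=
    Nat.eq_of_mul_eq_mul_right Nat.card_pos (hcA.symm.trans hcB)
  have hA1N : Nat.card A1 = Nat.card N := by
    rw [hA1B1]
    exact (Nat.eq_of_mul_eq_mul_left (Nat.card_pos (α := A1)) (hcA.symm.trans hcAB)).symm
  have hXp : IsPGroup p X := by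
    obtain ⟨k, hk⟩ := IsPGroup.iff_card.mp hNp
    exact IsPGroup.of_card (n := k + k) (by rw [hcA, hA1N, hk, pow_add])
  have hconjA : ∀ a ∈ A, ∀ x ∈ X, a * x * a⁻¹ ∈ X ∧ x⁻¹ * (a * x * a⁻¹) ∈ N := by
    intro a ha x hx
    obtain ⟨a1, ha1, n, hn, rfl⟩ := hdA x hx
    have h1 : a * (a1 * n) * a⁻¹ = a1 * (a * n * a⁻¹) := by
      rw [← mul_assoc a a1 n, comm ha ha1.1]; simp [mul_assoc]
    rw [h1]
    refine ⟨mul_mem (hA1X ha1) (hNX (hNn.conj_mem n hn a)), ?_⟩
    have h2 : (a1 * n)⁻¹ * (a1 * (a * n * a⁻¹)) = n⁻¹ * (a * n * a⁻¹) := by simp [mul_assoc]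
    exact h2 ▸ mul_mem (inv_mem hn) (hNn.conj_mem n hn a)
  have hconjB : ∀ b ∈ B, ∀ x ∈ X, b * x * b⁻¹ ∈ X ∧ x⁻¹ * (b * x * b⁻¹) ∈ N := by
    intro b hb x hx
    obtain ⟨b1, hb1, n, hn, rfl⟩ := hdB x (hXB ▸ hx)
    have h1 : b * (b1 * n) * b⁻¹ = b1 * (b * n * b⁻¹) := by
      rw [← mul_assoc b b1 n, comm hb hb1.1]; simp [mul_assoc]
    rw [h1]
    refine ⟨mul_mem (hB1X hb1) (hNX (hNn.conj_mem n hn b)), ?_⟩
    have h2 : (b1 * n)⁻¹ * (b1 * (b * n * b⁻¹)) = n⁻¹ * (b * n * b⁻¹) := by simp [mul_assoc]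
    exact h2 ▸ mul_mem (inv_mem hn) (hNn.conj_mem n hn b)
  have hconj : ∀ (g x : G), x ∈ X → g * x * g⁻¹ ∈ X ∧ x⁻¹ * (g * x * g⁻¹) ∈ N := by
    intro g x hx
    obtain ⟨a, ha, b, hb, rfl⟩ := hAB g
    obtain ⟨hy, hy'⟩ := hconjB b hb x hx
    obtain ⟨hz, hz'⟩ := hconjA a ha _ hy
    have h1 : a * b * x * (a * b)⁻¹ = a * (b * x * b⁻¹) * a⁻¹ := by simp [mul_assoc]
    rw [h1]
    refine ⟨hz, ?_⟩
    simpa [mul_assoc] using mul_mem hy' hz'
  have hXn : X.Normal := ⟨fun x hx g => (hconj g x hx).1⟩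
  have hXN : ∀ y ∈ N, ∀ x ∈ X, x * y = y * x := by
    have := hXp.isNilpotent
    have hne : N.subgroupOf X ≠ ⊥ := fun h =>
      hN.2.1 (disjoint_self.mp ((subgroupOf_eq_bot.mp h).mono_right hNX))
    have h := Cfsg.Agent.Fitting.inf_center_ne_bot hne
    obtain ⟨z, hz, hz1⟩ : ∃ z, z ∈ N.subgroupOf X ⊓ center X ∧ z ≠ 1 := by
      by_contra h'
      push Not at h'
      exact h ((eq_bot_iff_forall _).mpr h')
    exact hdich (X : Set G) (x := (z : G)) hz.1 (fun h => hz1 (Subtype.ext h)) fun x hx =>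
      congrArg Subtype.val (mem_center_iff.mp hz.2 ⟨x, hx⟩)
  -- the action on `X`
  set φ : G →* MulAut X := MulAut.conjNormal with hφ
  have hker : ∀ g : G, φ g = 1 ↔ ∀ x ∈ X, g * x * g⁻¹ = x := fun g =>
    ⟨fun h x hx => by
      have := congrArg Subtype.val (DFunLike.congr_fun h (⟨x, hx⟩ : X))
      simpa [hφ] using this,
      fun h => MulEquiv.ext fun x => Subtype.ext (h x x.2)⟩
  have hkerP : ∀ P P1 : Subgroup G, IsMulCommutative P → P1 ≤ P →
      (∀ x ∈ X, ∃ a ∈ P1, ∃ n ∈ N, x = a * n) → ∀ g ∈ P, φ g ^ p = 1 → φ g = 1 := by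
    intro P P1 hP hP1 hd g hg hgp
    set ρ : G →* MulAut N := MulAut.conjNormal with hρ
    have hρp : ρ g ^ p = 1 := by
      rw [← map_pow]
      refine MulEquiv.ext fun x => Subtype.ext ?_
      rw [← map_pow] at hgp
      exact (hker _).mp hgp x (hNX x.2)
    have hzp : IsPGroup p (zpowers (ρ g)) := fun y => ⟨1, by
      obtain ⟨k, hk⟩ := mem_zpowers_iff.mp y.2
      apply Subtype.ext
      rw [pow_one, coe_pow, coe_one, ← hk, ← zpow_natCast (ρ g ^ k) p, ← zpow_mul, mul_comm,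
        zpow_mul, zpow_natCast, hρp, one_zpow]⟩
    have hdvd : p ∣ Nat.card N := by
      obtain ⟨k, hk⟩ := IsPGroup.iff_card.mp hNp
      rcases k with _ | k
      · exact absurd (eq_bot_of_card_eq N (by simpa using hk)) hN.2.1
      · exact hk ▸ dvd_pow_self p k.succ_ne_zero
    obtain ⟨n, hn, hn1⟩ := hzp.exists_fixed_point_of_prime_dvd_card_of_fixed_point N hdvd
      (a := (1 : N)) (fun y => map_one (y : MulAut N))
    have hfixn : g * (n : G) * g⁻¹ = n :=
      congrArg Subtype.val (hn ⟨ρ g, mem_zpowers _⟩)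
    have hall := hdich ({g} : Set G) n.2 (fun h => hn1 (Subtype.ext h).symm)
      (fun s hs => by rw [Set.mem_singleton_iff] at hs; subst hs; exact conj_eq_self.mp hfixn)
    refine (hker g).mpr fun x hx => ?_
    obtain ⟨a, ha, m, hm, rfl⟩ := hd x hx
    refine conj_eq_self.mpr ?_
    rw [← mul_assoc, comm hg (hP1 ha), mul_assoc, hall m hm g rfl, mul_assoc]
  have hcop : ∀ P P1 : Subgroup G, IsMulCommutative P → P1 ≤ P →
      (∀ x ∈ X, ∃ a ∈ P1, ∃ n ∈ N, x = a * n) → p.Coprime (Nat.card (P.map φ)) := by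
    intro P P1 hP hP1 hd
    refine hp.coprime_iff_not_dvd.mpr fun h => ?_
    obtain ⟨⟨_, g, hg, rfl⟩, hy⟩ := exists_prime_orderOf_dvd_card' p h
    have hy' : orderOf (φ g) = p := by
      rw [← Subgroup.orderOf_coe] at hy
      exact hy
    have h1 := hkerP P P1 hP hP1 hd g hg (hy' ▸ pow_orderOf_eq_one (φ g))
    rw [h1, orderOf_one] at hy'
    exact hp.ne_one hy'.symm
  have hRcop : p.Coprime (Nat.card φ.range) := by
    have h := Cfsg.Agent.S0560.card_mul_mul_card_inf (A.map φ) (B.map φ)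
    have hset : ((A.map φ : Subgroup (MulAut X)) : Set (MulAut X)) * (B.map φ : Subgroup _)
        = (φ.range : Set (MulAut X)) := by
      ext y
      constructor
      · rintro ⟨_, ⟨a, -, rfl⟩, _, ⟨b, -, rfl⟩, rfl⟩
        exact ⟨a * b, map_mul φ a b⟩
      · rintro ⟨g, rfl⟩
        obtain ⟨a, ha, b, hb, rfl⟩ := hAB g
        exact ⟨φ a, mem_map_of_mem _ ha, φ b, mem_map_of_mem _ hb, (map_mul φ a b).symm⟩
    rw [hset] at h
    exact Nat.Coprime.coprime_dvd_right ⟨_, h.symm⟩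
      ((hcop A A1 ‹_› inf_le_left hdA).mul_right
        (hcop B B1 ‹_› inf_le_left (hXB ▸ hdB)))
  have hCN : ∀ g : G, (∀ y ∈ N, g * y = y * g) → φ g = 1 := by
    intro g hg
    have hgp : φ g ^ p = 1 := by
      rw [← map_pow]
      refine (hker _).mpr fun x hx => ?_
      have hn0 := (hconj g x hx).2
      set n0 := x⁻¹ * (g * x * g⁻¹) with hn0def
      have hstep : ∀ k : ℕ, g ^ k * x * (g ^ k)⁻¹ = x * n0 ^ k := by
        intro k
        induction k with
        | zero => simp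
        | succ k ih =>
          calc g ^ (k + 1) * x * (g ^ (k + 1))⁻¹ = g * (g ^ k * x * (g ^ k)⁻¹) * g⁻¹ := by
                simp [pow_succ', mul_assoc]
            _ = g * x * g⁻¹ * (g * n0 ^ k * g⁻¹) := by rw [ih]; simp [mul_assoc]
            _ = x * n0 ^ (k + 1) := by
                rw [conj_eq_self.mpr (hg _ (pow_mem hn0 k)), pow_succ', hn0def]
                simp [mul_assoc]
      rw [hstep p, hel.2 n0 hn0, mul_one]
    have h1 : orderOf (φ g) ∣ Nat.card φ.range := by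
      have := orderOf_dvd_natCard (⟨φ g, g, rfl⟩ : φ.range)
      rwa [← Subgroup.orderOf_coe] at this
    exact orderOf_eq_one_iff.mp
      (Nat.eq_one_of_dvd_coprimes hRcop (orderOf_dvd_of_pow_eq_one hgp) h1)
  have hAn : A1.Normal := by
    refine ⟨fun x hx g => ?_⟩
    obtain ⟨a, ha, b, hb, rfl⟩ := hAB g
    have hyX := (hconj b x (hA1X hx)).1
    have hcomm : ∀ u ∈ A, u * (b * x * b⁻¹) = b * x * b⁻¹ * u := fun u hu => by
      have hc : φ ⁅u, b⁆ = 1 := hCN _ fun y hy =>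
        hMab _ (commutator_mem_commutator (mem_top u) (mem_top b)) y (hNM hy)
      have h1 : u * (b * x * b⁻¹) * u⁻¹ = ⁅u, b⁆ * (b * (u * x * u⁻¹) * b⁻¹) * ⁅u, b⁆⁻¹ := by
        simp [commutatorElement_def, mul_assoc]
      refine conj_eq_self.mp ?_
      rw [h1, conj_eq_self.mpr (comm hu hx.1), (hker _).mp hc _ hyX]
    obtain ⟨a2, ha2, n, hn, hy⟩ := hdA _ hyX
    have hn1 : n = 1 := hNA n hn fun u hu => by
      have := hcomm u hu
      rw [hy, ← mul_assoc, comm hu ha2.1, mul_assoc, mul_assoc] at this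
      exact mul_left_cancel this
    have h2 : a * b * x * (a * b)⁻¹ = a * (b * x * b⁻¹) * a⁻¹ := by simp [mul_assoc]
    rw [h2, hy, hn1, mul_one, comm ha ha2.1, mul_inv_cancel_right]
    exact ha2
  refine hno ⟨A1, hAn, fun h => hN.2.1 (eq_bot_of_card_eq N ?_), .inl inf_le_left⟩
  rw [← hA1N, h, card_bot]

end Cfsg.Agent.AbelianProduct
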