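import Cfsg.Agent.Lib.Fitting.Minimal
import Cfsg.Agent.Lib.Solvable.System

/-!
# Carter subgroups and system normalizers of finite solvable groups
-/

set_option autoImplicit false

open Subgroup
open scoped commutatorElement Pointwise

namespace Cfsg.Agent.Carter

open Cfsg.Agent.Fitting (IsMinNormal)
open Cfsg.Agent.Solvable (mem_conj_smul)

variable {G : Type*} [Group G] [Finite G]

/-! ### Elements of coprime order -/

theorem mem_of_coprime_of_mem_normalizer {H : Subgroup G} {x : G}
    (hx : x ∈ normalizer (H : Set G)) (h : (orderOf x).Coprime H.index) : x ∈ H := by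
  set N := normalizer (H : Set G)
  have h1 : orderOf (QuotientGroup.mk' (H.subgroupOf N) ⟨x, hx⟩) ∣ orderOf x := by
    rw [← Subgroup.orderOf_mk x hx]; exact orderOf_map_dvd _ _
  have h2 : orderOf (QuotientGroup.mk' (H.subgroupOf N) ⟨x, hx⟩) ∣ H.index := by
    refine (_root_.orderOf_dvd_natCard _).trans ?_
    rw [← index_eq_card]
    exact relIndex_dvd_index_of_le le_normalizer
  have h3 := Nat.eq_one_of_dvd_coprimes h h1 h2
  rw [orderOf_eq_one_iff, QuotientGroup.mk'_apply, QuotientGroup.eq_one_iff] at h3
  exact h3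

/-- In a nilpotent group an element whose order is prime to the index of a subgroup lies in it. -/
theorem mem_of_coprime_index_of_isNilpotent [Group.IsNilpotent G] (H : Subgroup G) (x : G)
    (h : (orderOf x).Coprime H.index) : x ∈ H := by
  induction H using WellFoundedGT.induction with
  | _ H ih =>
    rcases eq_or_ne H ⊤ with rfl | hne
    · exact mem_top x
    · have hlt : H < normalizer (H : Set G) :=
        Group.normalizerCondition_of_isNilpotent H hne.lt_top
      exact mem_of_coprime_of_mem_normalizer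
        (ih _ hlt (h.coprime_dvd_right (index_dvd_of_le hlt.le))) h

/-- Version of the previous lemma inside a nilpotent subgroup. -/
theorem mem_of_coprime_relIndex {C H : Subgroup G} (hC : Group.IsNilpotent C) {x : G} (hx : x ∈ C)
    (h : (orderOf x).Coprime (H.relIndex C)) : x ∈ H := by
  have := mem_of_coprime_index_of_isNilpotent (H.subgroupOf C) (⟨x, hx⟩ : C)
    (by rwa [Subgroup.orderOf_mk])
  exact this

/-- A normal subgroup of order prime to the index of `H` lies in `H`. -/
theorem normal_le_of_coprime (H N : Subgroup G) [N.Normal]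
    (h : (Nat.card N).Coprime H.index) : N ≤ H := by
  rw [← relIndex_eq_one]
  exact Nat.eq_one_of_dvd_coprimes h (relIndex_dvd_card H N)
    (Cfsg.Agent.Solvable.relIndex_dvd_index_right_normal H N)

omit [Finite G] in
theorem isCarterSubgroup_conj {H : Subgroup G} (hH : Cfsg.IsCarterSubgroup H) (g : G) :
    Cfsg.IsCarterSubgroup (MulAut.conj g • H) := by
  refine ⟨Group.nilpotent_of_mulEquiv (_h := hH.1)
    (Subgroup.equivSMul (MulAut.conj g) H), ?_⟩
  conv_rhs => rw [← hH.2]
  rw [pointwise_smul_def, pointwise_smul_def]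
  exact (map_equiv_normalizer_eq H (MulAut.conj g)).symm

omit [Finite G] in
theorem isCarterSubgroup_subgroupOf {H M : Subgroup G} (hH : Cfsg.IsCarterSubgroup H)
    (h : H ≤ M) : Cfsg.IsCarterSubgroup (H.subgroupOf M) := by
  refine ⟨Group.nilpotent_of_mulEquiv (_h := hH.1) (subgroupOfEquivOfLe h).symm, ?_⟩
  rw [← subgroupOf_normalizer_eq h, hH.2]

/-- A Carter subgroup contained in a nilpotent subgroup is equal to it. -/
theorem eq_of_le_isNilpotent {D C : Subgroup G} (hC : Group.IsNilpotent C)
    (hD : normalizer (D : Set G) = D) (h : D ≤ C) : D = C := by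
  by_contra hne
  have hlt : D.subgroupOf C < ⊤ := lt_top_iff_ne_top.mpr fun he =>
    hne (le_antisymm h (subgroupOf_eq_top.mp he))
  obtain ⟨x, hx, hxD⟩ := SetLike.exists_of_lt (Group.normalizerCondition_of_isNilpotent _ hlt)
  rw [← subgroupOf_normalizer_eq h, hD] at hx
  exact hxD hx

/-! ### Complement systems -/

variable {K : Nat.Primes → Subgroup G}

/-- The complement system `K` reduces into `C`: every `p'`-element of `C` lies in `K p`. -/
def Reduces (K : Nat.Primes → Subgroup G) (C : Subgroup G) : Prop :=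
  ∀ p : Nat.Primes, ∀ x ∈ C, (orderOf x).Coprime p → x ∈ K p

theorem center_le_systemNormalizer : center G ≤ Cfsg.systemNormalizer K :=
  le_iInf fun _ => (center_le_centralizer _).trans (centralizer_le_normalizer _)

theorem isComplementSystem_conj (hK : Cfsg.IsComplementSystem K) (g : G) :
    Cfsg.IsComplementSystem (fun p => MulAut.conj g • K p) := fun p =>
  (Cfsg.Agent.Solvable.index_conj_smul g (K p)).trans (hK p)

omit [Finite G] in
theorem systemNormalizer_conj (g : G) :
    Cfsg.systemNormalizer (fun p => MulAut.conj g • K p) =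
      MulAut.conj g • Cfsg.systemNormalizer K := by
  ext x
  rw [mem_conj_smul, Cfsg.Agent.Solvable.mem_systemNormalizer_iff,
    Cfsg.Agent.Solvable.mem_systemNormalizer_iff]
  refine forall_congr' fun p => ?_
  rw [map_mul, map_mul, map_inv, mul_smul, mul_smul, inv_smul_eq_iff]

theorem index_coprime (hK : Cfsg.IsComplementSystem K) (p : Nat.Primes) {x : G}
    (hx : (orderOf x).Coprime p) : (orderOf x).Coprime (K p).index := by
  rw [hK p]; exact hx.pow_right _

/-- In a nilpotent group every system normalizer is the whole group. -/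
theorem systemNormalizer_eq_top [Group.IsNilpotent G] (hK : Cfsg.IsComplementSystem K) :
    Cfsg.systemNormalizer K = ⊤ := by
  refine eq_top_iff.mpr fun g _ => mem_iInf.mpr fun p => ?_
  have hmem : ∀ x : G, x ∈ K p ↔ (orderOf x).Coprime p := by
    refine fun x => ⟨fun hx => ?_, fun hx => mem_of_coprime_index_of_isNilpotent _ x
      (index_coprime hK p hx)⟩
    refine Nat.Coprime.coprime_dvd_left (Subgroup.orderOf_dvd_natCard _ hx) ?_
    refine (p.2.coprime_iff_not_dvd.mpr fun hd => ?_).symm
    have h2 : (p : ℕ) ^ ((Nat.card G).factorization p + 1) ∣ Nat.card G := by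
      rw [pow_succ', ← hK p]
      exact (mul_dvd_mul_right hd _).trans (K p).card_mul_index.dvd
    exact Nat.pow_succ_factorization_not_dvd Nat.card_pos.ne' p.2 h2
  rw [mem_normalizer_iff]
  intro x
  rw [hmem, hmem, show orderOf (g * x * g⁻¹) = orderOf x from MulEquiv.orderOf_eq (MulAut.conj g) x]

theorem card_coprime (hK : Cfsg.IsComplementSystem K) (p : Nat.Primes) :
    (Nat.card (K p)).Coprime p := by
  refine (p.2.coprime_iff_not_dvd.mpr fun hd => ?_).symm
  have h2 : (p : ℕ) ^ ((Nat.card G).factorization p + 1) ∣ Nat.card G := by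
    rw [pow_succ', ← hK p]
    exact (mul_dvd_mul_right hd _).trans (K p).card_mul_index.dvd
  exact Nat.pow_succ_factorization_not_dvd Nat.card_pos.ne' p.2 h2

/-- Modulo a normal subgroup with nilpotent quotient the system normalizer is everything. -/
theorem systemNormalizer_sup_eq_top [Group.IsSolvable G] (hK : Cfsg.IsComplementSystem K)
    (F : Subgroup G) [F.Normal] [Group.IsNilpotent (G ⧸ F)] :
    Cfsg.systemNormalizer K ⊔ F = ⊤ := by
  have h := Cfsg.Agent.Solvable.systemNormalizer_map hK F
  rw [systemNormalizer_eq_top (Cfsg.Agent.Solvable.isComplementSystem_map hK F)] at h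
  rw [← Cfsg.Agent.Solvable.comap_map_mk', ← h, comap_top]

/-! ### Chief factors -/

/-- A system normalizer avoids every non-central minimal normal subgroup. -/
theorem inf_systemNormalizer_eq_bot [Group.IsSolvable G] (hK : Cfsg.IsComplementSystem K)
    {N : Subgroup G} (hN : IsMinNormal N) (hc : ¬ N ≤ center G) :
    N ⊓ Cfsg.systemNormalizer K = ⊥ := by
  have := hN.1
  obtain ⟨p, hp, hab, hexp⟩ := hN.exists_isElementaryAbelian_of_isSolvable
  have := Fact.mk hp
  let p' : Nat.Primes := ⟨p, hp⟩
  have hNp : IsPGroup p N := Cfsg.Agent.Fitting.isPGroup_of_isElementaryAbelian ⟨hab, hexp⟩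
  set C := centralizer (N : Set G)
  -- `N ∩ T` centralizes `K p`
  have hW : ∀ x ∈ N ⊓ Cfsg.systemNormalizer K, ∀ k ∈ K p', k * x = x * k := by
    intro x hx k hk
    have h1 : x * k * x⁻¹ ∈ K p' :=
      (mem_normalizer_iff.mp (mem_iInf.mp hx.2 p') k).mp hk
    have h2 : ⁅x, k⁆ ∈ N ⊓ K p' := by
      refine mem_inf.mpr ⟨?_, by rw [commutatorElement_def]; exact mul_mem h1 (inv_mem hk)⟩
      rw [commutatorElement_def, mul_assoc, mul_assoc, ← mul_assoc k]
      exact mul_mem hx.1 (hN.1.conj_mem _ (inv_mem hx.1) k)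
    have h3 : Disjoint N (K p') := disjoint_of_coprime_natCard (by
      obtain ⟨n, hn⟩ := IsPGroup.iff_card.mp hNp
      rw [hn]
      exact ((card_coprime hK p').symm).pow_left n)
    rw [h3.eq_bot, mem_bot, commutatorElement_eq_one_iff_mul_comm] at h2
    exact h2.symm
  have hCne : C ≠ ⊤ := fun h => hc fun n hn => mem_center_iff.mpr fun g =>
    (mem_centralizer_iff.mp (h.ge (mem_top g)) n hn).symm
  have : Nontrivial (G ⧸ C) := QuotientGroup.nontrivial_iff.mpr hCne
  obtain ⟨R0, hR0⟩ := Cfsg.Agent.Fitting.exists_isMinNormal (G := G ⧸ C)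
  obtain ⟨q, hq, hel⟩ := hR0.exists_isElementaryAbelian_of_isSolvable
  have := Fact.mk hq
  have hR0q : IsPGroup q R0 := Cfsg.Agent.Fitting.isPGroup_of_isElementaryAbelian hel
  set R := R0.comap (QuotientGroup.mk' C) with hRdef
  have hRn : R.Normal := hR0.1.comap _
  have hRC : ¬ R ≤ C := fun h => hR0.2.1 (le_bot_iff.mp fun x hx => by
    obtain ⟨g, rfl⟩ := QuotientGroup.mk'_surjective C x
    exact mem_bot.mpr ((QuotientGroup.eq_one_iff g).mpr (h hx)))
  have hCR : C ≤ R := fun x hx => by
    rw [hRdef, mem_comap, QuotientGroup.mk'_apply, (QuotientGroup.eq_one_iff x).mpr hx]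
    exact one_mem _
  have hfix : N ⊓ centralizer (R : Set G) = ⊥ :=
    (hN.2.2 _ inferInstance inf_le_left).resolve_right fun h =>
      hRC (le_centralizer_iff.mp (inf_eq_left.mp h))
  by_cases hqp : q = p
  · -- impossible: a `p`-group fixes a non-trivial element of `N`
    exfalso
    subst hqp
    let φ : G ⧸ C →* MulAut N := QuotientGroup.lift C MulAut.conjNormal fun c hcC => by
      rw [MonoidHom.mem_ker]
      ext n
      simp [← mem_centralizer_iff.mp hcC n n.2]
    let _ : MulAction R0 N := MulAction.compHom N (φ.comp R0.subtype)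
    have hNd : q ∣ Nat.card N := hNp.card_eq_or_dvd.resolve_left fun h =>
      hN.2.1 (eq_bot_of_card_eq N h)
    obtain ⟨n, hn, hne⟩ := hR0q.exists_fixed_point_of_prime_dvd_card_of_fixed_point (α := N) hNd
      (a := 1) (fun r => map_one (φ r))
    have h1 : (n : G) ∈ N ⊓ centralizer (R : Set G) := by
      refine ⟨n.2, mem_centralizer_iff.mpr fun x hx => ?_⟩
      have h2 : ((MulAut.conjNormal x n : N) : G) = n :=
        congrArg Subtype.val (hn ⟨QuotientGroup.mk' C x, hx⟩)
      rw [MulAut.conjNormal_apply, mul_inv_eq_iff_eq_mul] at h2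
      exact h2
    rw [hfix, mem_bot] at h1
    exact hne (Subtype.ext h1).symm
  · have hRK : R ≤ K p' ⊔ C := by
      intro x hx
      have hle : R0 ≤ (K p').map (QuotientGroup.mk' C) := by
        have := hR0.1
        refine normal_le_of_coprime _ R0 ?_
        obtain ⟨n, hn⟩ := IsPGroup.iff_card.mp hR0q
        rw [hn]
        refine Nat.Coprime.coprime_dvd_right
          (index_map_dvd (H := K p') (QuotientGroup.mk'_surjective C)) ?_
        rw [hK p']
        exact Nat.Coprime.pow _ _ ((Nat.coprime_primes hq hp).mpr hqp)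
      rw [← Cfsg.Agent.Solvable.comap_map_mk']
      exact hle hx
    rw [eq_bot_iff, ← hfix]
    refine le_inf inf_le_left (le_centralizer_iff.mp (hRK.trans (sup_le ?_ ?_)))
    · intro k hk
      exact mem_centralizer_iff.mpr fun x hx => (hW x hx k hk).symm
    · exact centralizer_le (SetLike.coe_subset_coe.mpr inf_le_left)

/-! ### Existence of Carter subgroups over system normalizers -/

universe u

private theorem exists_carter_aux : ∀ (n : ℕ) (G : Type u) [Group G] [Finite G]
    [Group.IsSolvable G] (K : Nat.Primes → Subgroup G), Nat.card G ≤ n →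
    Cfsg.IsComplementSystem K →
    ∃ C : Subgroup G, Cfsg.IsCarterSubgroup C ∧ Cfsg.systemNormalizer K ≤ C ∧ Reduces K C := by
  intro n
  induction n with
  | zero => intro G _ _ _ K hle _; exact absurd hle (by have := Nat.card_pos (α := G); omega)
  | succ n ih =>
    intro G _ _ _ K hle hK
    rcases subsingleton_or_nontrivial G with hs | hnt
    · refine ⟨⊤, ⟨inferInstance, eq_top_iff.mpr le_normalizer⟩, le_top, fun p x _ _ => ?_⟩
      rw [Subsingleton.elim x 1]; exact one_mem _
    obtain ⟨N, hN⟩ := Cfsg.Agent.Fitting.exists_isMinNormal (G := G)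
    have := hN.1
    obtain ⟨p, hp, hel⟩ := hN.exists_isElementaryAbelian_of_isSolvable
    have := Fact.mk hp
    let p' : Nat.Primes := ⟨p, hp⟩
    have hNp : IsPGroup p N := Cfsg.Agent.Fitting.isPGroup_of_isElementaryAbelian hel
    obtain ⟨e, he⟩ := IsPGroup.iff_card.mp hNp
    set π := QuotientGroup.mk' N with hπ
    have hπs := QuotientGroup.mk'_surjective N
    have hKq := Cfsg.Agent.Solvable.isComplementSystem_map hK N
    have hlt : Nat.card (G ⧸ N) ≤ n := by
      have h1 : Nat.card N * N.index = Nat.card G := N.card_mul_index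
      rw [index_eq_card] at h1
      have h2 : 2 ≤ Nat.card N :=
        Finite.one_lt_card_iff_nontrivial.mpr ((nontrivial_iff_ne_bot N).mpr hN.2.1)
      have h3 : 0 < Nat.card (G ⧸ N) := Nat.card_pos
      nlinarith
    obtain ⟨Cb, hCb, hDb, hred⟩ := ih (G ⧸ N) (fun q => (K q).map π) hlt hKq
    set L := Cb.comap π with hL
    have hNL : N ≤ L := fun x hx => by
      rw [hL, mem_comap, hπ, QuotientGroup.mk'_apply, (QuotientGroup.eq_one_iff x).mpr hx]
      exact one_mem _
    set R := L ⊓ K p' with hR
    have hRL : R ≤ L := inf_le_left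
    have hRp : (Nat.card R).Coprime p :=
      (card_coprime hK p').coprime_dvd_left (card_dvd_of_le inf_le_right)
    -- `p'`-elements of `L` lie in `R ⊔ N`
    have hRN : ∀ x ∈ L, (orderOf (π x)).Coprime p → x ∈ R ⊔ N := by
      intro x hx hxp
      obtain ⟨k, hk, hkx⟩ := hred p' (π x) hx hxp
      have hkL : k ∈ L := by rw [hL, mem_comap, hkx]; exact hx
      have h1 : k⁻¹ * x ∈ N := by
        rw [← QuotientGroup.eq_one_iff]
        show π (k⁻¹ * x) = 1
        rw [map_mul, map_inv, hkx, inv_mul_cancel]
      simpa using mul_mem_sup (show k ∈ R from ⟨hkL, hk⟩) h1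
    have hRNL : R ⊔ N ≤ L := sup_le hRL hNL
    have hcardRN : Nat.card ↥(R ⊔ N) = Nat.card R * Nat.card N := by
      have h1 := Cfsg.Agent.Solvable.card_sup_mul_card_inf R N
      have h2 : Disjoint R N := disjoint_of_coprime_natCard (by rw [he]; exact hRp.pow_right e)
      rwa [h2.eq_bot, card_bot, mul_one] at h1
    have hdvd : Nat.card L ∣ Nat.card R * Nat.card L ^ 0 * p ^ (Nat.card L) := by
      rw [pow_zero, mul_one, Nat.dvd_iff_prime_pow_dvd_dvd]
      intro r k hr hk
      rcases eq_or_ne r p with rfl | hrp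
      · refine Dvd.dvd.mul_left (pow_dvd_pow r ?_) _
        exact ((Nat.lt_pow_self hr.one_lt).le).trans (Nat.le_of_dvd Nat.card_pos hk)
      · have := Fact.mk hr
        obtain ⟨S, hS⟩ := Sylow.exists_subgroup_card_pow_prime r hk
        have hSle : S.map L.subtype ≤ R ⊔ N := by
          rintro _ ⟨x, hx, rfl⟩
          refine hRN _ x.2 (Nat.Coprime.coprime_dvd_left ((orderOf_map_dvd π _).trans ?_)
            ((Nat.Coprime.pow_left k) ((Nat.coprime_primes hr hp).mpr hrp)))
          rw [Subgroup.coe_subtype, Subgroup.orderOf_coe, ← hS]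
          exact Subgroup.orderOf_dvd_natCard _ hx
        have h1 := card_dvd_of_le hSle
        rw [card_map_of_injective L.subtype_injective, hS, hcardRN, he] at h1
        exact Dvd.dvd.mul_right (((Nat.coprime_primes hr hp).mpr hrp).pow _ _ |>.dvd_of_dvd_mul_right h1) _
    rw [pow_zero, mul_one, ← relIndex_bot_left L, ← relIndex_mul_relIndex _ R L bot_le hRL,
      relIndex_bot_left, mul_dvd_mul_iff_left Nat.card_pos.ne'] at hdvd
    obtain ⟨E, hE⟩ : ∃ E, R.relIndex L ∣ p ^ E := ⟨_, hdvd⟩
    -- the normalizer of `R` in `L`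
    set C := L ⊓ normalizer (R : Set G) with hC
    have hRC : R ≤ C := le_inf hRL le_normalizer
    have hCL : C ≤ L := inf_le_left
    have hCmap : C.map π = Cb := by
      refine le_antisymm (map_le_iff_le_comap.mpr hCL) fun x hx => ?_
      obtain ⟨l, rfl⟩ := hπs x
      have hl : l ∈ L := hx
      have hconj : MulAut.conj l • R ≤ R ⊔ N := by
        intro y hy
        rw [mem_conj_smul] at hy
        have hyL : y ∈ L := by simpa [mul_assoc] using mul_mem (mul_mem hl (hRL hy)) (inv_mem hl)
        refine hRN y hyL (hRp.coprime_dvd_left ((orderOf_map_dvd π y).trans ?_))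
        rw [show orderOf y = orderOf (l⁻¹ * y * l) from
          ((MulEquiv.orderOf_eq (MulAut.conj l⁻¹) y).symm.trans (by simp))]
        exact Subgroup.orderOf_dvd_natCard _ hy
      obtain ⟨g, hg⟩ := Cfsg.Agent.Solvable.hall_conj (G := ↥(R ⊔ N)) (m := Nat.card R)
        (n := Nat.card N) hcardRN (by rw [he]; exact hRp.pow_right e)
        (R.subgroupOf (R ⊔ N)) ((MulAut.conj l • R).subgroupOf (R ⊔ N))
        (Cfsg.Agent.Solvable.card_subgroupOf le_sup_left)
        ((Cfsg.Agent.Solvable.card_subgroupOf hconj).trans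
          (Cfsg.Agent.Solvable.card_conj_smul l R))
      obtain ⟨g, hgM, hg⟩ :=
        Cfsg.Agent.Solvable.exists_conj_of_subgroupOf le_sup_left hconj ⟨g, hg⟩
      obtain ⟨m, hm, r, hr, rfl⟩ := mem_sup_of_normal_left.mp (sup_comm R N ▸ hgM)
      refine ⟨m⁻¹ * l, mem_inf.mpr ⟨mul_mem (inv_mem (hNL hm)) hl, ?_⟩, ?_⟩
      · rw [map_mul, mul_smul, conj_smul_eq_self_of_mem hr] at hg
        rw [mem_normalizer_iff'']
        intro y
        have h3 : MulAut.conj (m⁻¹ * l) • R = R := by
          rw [map_mul, mul_smul, ← hg, map_inv, inv_smul_smul]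
        exact (by rw [← mem_conj_smul, h3] : y ∈ R ↔ (m⁻¹ * l)⁻¹ * y * (m⁻¹ * l) ∈ R)
      · rw [map_mul, show π m⁻¹ = 1 from (QuotientGroup.eq_one_iff _).mpr (inv_mem hm), one_mul]
    have hRrel : R.relIndex C ∣ p ^ E :=
      (Dvd.intro _ (relIndex_mul_relIndex R C L hRC hCL)).trans hE
    -- `C` is nilpotent
    have hCn : Group.IsNilpotent C := by
      let f : C →* Cb := (π.comp C.subtype).codRestrict Cb fun x => hCmap.le (mem_map_of_mem π x.2)
      have hfs : Function.Surjective f := fun y => by
        obtain ⟨x, hx, hxy⟩ := hCmap.ge y.2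
        exact ⟨⟨x, hx⟩, Subtype.ext hxy⟩
      have := hCb.1
      have hker : IsPGroup p f.ker := by
        refine ((hNp.comap_subtype (K := C))).to_le ?_
        intro x hx
        have h1 : π (x : G) = 1 := congrArg Subtype.val hx
        exact (QuotientGroup.eq_one_iff (x : G)).mp h1
      obtain ⟨P⟩ : Nonempty (Sylow p C) := inferInstance
      have hPn : (P : Subgroup C).Normal := by
        have hQn : ((P.mapSurjective hfs : Sylow p Cb) : Subgroup Cb).Normal := inferInstance
        have hQc : (((P.mapSurjective hfs : Sylow p Cb) : Subgroup Cb).comap f).Normal :=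
          hQn.comap f
        have hQp : IsPGroup p (((P.mapSurjective hfs : Sylow p Cb) : Subgroup Cb).comap f) :=
          (P.mapSurjective hfs).2.comap_of_ker_isPGroup f hker
        rw [← P.is_maximal' hQp fun x hx => mem_map_of_mem f hx]
        exact hQc
      have hR0 : (R.subgroupOf C).Normal := normal_subgroupOf_of_le_normalizer inf_le_right
      have hR0n : Group.IsNilpotent (R.subgroupOf C) := by
        have hinj : Function.Injective (f.comp (R.subgroupOf C).subtype) := by
          rw [injective_iff_map_eq_one]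
          intro x hx
          have h1 : ((x : C) : G) ∈ R ⊓ N :=
            ⟨x.2, (QuotientGroup.eq_one_iff _).mp (congrArg Subtype.val hx)⟩
          rw [(disjoint_of_coprime_natCard (by rw [he]; exact hRp.pow_right e) :
            Disjoint R N).eq_bot, mem_bot] at h1
          exact Subtype.ext (Subtype.ext h1)
        exact Group.nilpotent_of_mulEquiv (MonoidHom.ofInjective hinj).symm
      rw [← Group.isNilpotent_top, show (⊤ : Subgroup C) = R.subgroupOf C ⊔ P from ?_]
      · exact Cfsg.Agent.Fitting.isNilpotent_sup_of_normal hR0 hPn hR0n P.2.isNilpotent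
      · refine (index_eq_one.mp ?_).symm
        refine Nat.eq_one_of_dvd_coprimes ?_ ((index_dvd_of_le le_sup_left).trans hRrel)
          (index_dvd_of_le le_sup_right)
        exact (Nat.Coprime.pow_left _ (hp.coprime_iff_not_dvd.mpr P.not_dvd_index))
    have hCR : ∀ x ∈ C, (orderOf x).Coprime p → x ∈ R := fun x hx hxp =>
      mem_of_coprime_relIndex hCn hx ((hxp.pow_right _).coprime_dvd_right hRrel)
    refine ⟨C, ⟨hCn, ?_⟩, ?_, ?_⟩
    · refine le_antisymm (fun g hg => ?_) le_normalizer
      have hgL : g ∈ L := by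
        have h1 : π g ∈ normalizer (Cb : Set (G ⧸ N)) := by
          rw [← hCmap]
          exact le_normalizer_map π (mem_map_of_mem π hg)
        rw [hCb.2] at h1
        exact h1
      refine ⟨hgL, mem_normalizer_iff_map_conj_eq.mpr (eq_of_le_of_card_ge ?_
        (card_map_of_injective (MulAut.conj g).injective).ge)⟩
      rintro _ ⟨r, hr, rfl⟩
      refine hCR _ ((mem_normalizer_iff.mp hg r).mp (hRC hr)) ?_
      show (orderOf (g * r * g⁻¹)).Coprime p
      rw [show orderOf (g * r * g⁻¹) = orderOf r from MulEquiv.orderOf_eq (MulAut.conj g) r]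
      exact hRp.coprime_dvd_left (Subgroup.orderOf_dvd_natCard _ hr)
    · intro d hd
      have hdL : d ∈ L := by
        refine hDb ?_
        rw [Cfsg.Agent.Solvable.systemNormalizer_map hK N]
        exact mem_map_of_mem π hd
      refine mem_inf.mpr ⟨hdL, ?_⟩
      rw [mem_normalizer_iff]
      intro y
      simp only [hR, mem_inf]
      rw [mul_mem_cancel_right (inv_mem hdL), mul_mem_cancel_left hdL]
      exact and_congr_right fun _ => mem_normalizer_iff.mp (mem_iInf.mp hd p') y
    · intro q x hx hxq
      rcases eq_or_ne q p' with rfl | hqp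
      · exact (hCR x hx hxq).2
      · have hNK : N ≤ K q := by
          refine normal_le_of_coprime _ N ?_
          rw [he, hK q]
          exact Nat.Coprime.pow _ _ ((Nat.coprime_primes hp q.2).mpr
            fun h => hqp (Subtype.ext h.symm))
        have h1 := hred q (π x) (hCL hx) (hxq.coprime_dvd_left (orderOf_map_dvd π x))
        rw [← mem_comap, Cfsg.Agent.Solvable.comap_map_mk', sup_eq_left.mpr hNK] at h1
        exact h1

theorem exists_carter_ge_systemNormalizer [Group.IsSolvable G] (hK : Cfsg.IsComplementSystem K) :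
    ∃ C : Subgroup G, Cfsg.IsCarterSubgroup C ∧ Cfsg.systemNormalizer K ≤ C ∧ Reduces K C :=
  exists_carter_aux (Nat.card G) G K le_rfl hK

/-! ### Conjugacy of Carter subgroups -/

private theorem carter_conj_aux : ∀ (n : ℕ) (G : Type u) [Group G] [Finite G]
    [Group.IsSolvable G] (H K : Subgroup G), Nat.card G ≤ n →
    Cfsg.IsCarterSubgroup H → Cfsg.IsCarterSubgroup K → ∃ g : G, MulAut.conj g • H = K := by
  intro n
  induction n with
  | zero => intro G _ _ _ H K hle; exact absurd hle (by have := Nat.card_pos (α := G); omega)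
  | succ n ih =>
    intro G _ _ _ H K hle hH hK
    rcases subsingleton_or_nontrivial G with hs | hnt
    · exact ⟨1, Subsingleton.elim _ _⟩
    -- conjugacy inside a proper subgroup
    have hsub : ∀ M A B : Subgroup G, M ≠ ⊤ → A ≤ M → B ≤ M → Cfsg.IsCarterSubgroup A →
        Cfsg.IsCarterSubgroup B → ∃ g ∈ M, MulAut.conj g • A = B := by
      intro M A B hM hA hB hAc hBc
      have hlt : Nat.card M ≤ n := by
        have h1 : Nat.card M ≠ Nat.card G := fun h => hM (eq_top_of_card_eq M h)
        have h2 := M.card_le_card_group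
        omega
      exact Cfsg.Agent.Solvable.exists_conj_of_subgroupOf hA hB
        (ih M _ _ hlt (isCarterSubgroup_subgroupOf hAc hA) (isCarterSubgroup_subgroupOf hBc hB))
    obtain ⟨N, hN⟩ := Cfsg.Agent.Fitting.exists_isMinNormal (G := G)
    have := hN.1
    set π := QuotientGroup.mk' N with hπ
    have hπs := QuotientGroup.mk'_surjective N
    have himg : ∀ A : Subgroup G, Cfsg.IsCarterSubgroup A → Cfsg.IsCarterSubgroup (A.map π) := by
      intro A hA
      refine ⟨Cfsg.Agent.Fitting.isNilpotent_map π hA.1, le_antisymm (fun x hx => ?_) le_normalizer⟩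
      obtain ⟨g, rfl⟩ := hπs x
      by_cases htop : A ⊔ N = ⊤
      · have h1 : g ∈ (A.map π).comap π := by
          rw [Cfsg.Agent.Solvable.comap_map_mk', htop]; exact mem_top g
        exact h1
      have hconj : MulAut.conj g • A ≤ A ⊔ N := by
        intro y hy
        rw [mem_conj_smul] at hy
        have h1 : π y ∈ A.map π := by
          have h2 := (mem_normalizer_iff.mp hx (π (g⁻¹ * y * g))).mp (mem_map_of_mem π hy)
          have h3 : π g * π (g⁻¹ * y * g) * (π g)⁻¹ = π y := by simp [mul_assoc]
          rwa [h3] at h2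
        rw [← Cfsg.Agent.Solvable.comap_map_mk']
        exact h1
      obtain ⟨m, hm, hme⟩ := hsub _ _ _ htop hconj le_sup_left (isCarterSubgroup_conj hA g) hA
      have h4 : m * g ∈ A := by
        have h5 : m * g ∈ normalizer (A : Set G) := by
          rw [mem_normalizer_iff'']
          intro y
          rw [← mem_conj_smul, Cfsg.Agent.Solvable.conj_smul_mul, hme]
        rwa [hA.2] at h5
      have h6 : π g ∈ (A ⊔ N).map π := by
        refine mem_map_of_mem π ?_
        simpa using mul_mem (inv_mem hm) (mem_sup_left (T := N) h4)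
      rwa [Subgroup.map_sup, (Subgroup.map_eq_bot_iff N).mpr (by rw [hπ, QuotientGroup.ker_mk']),
        sup_bot_eq] at h6
    have hlt : Nat.card (G ⧸ N) ≤ n := by
      have h1 : Nat.card N * N.index = Nat.card G := N.card_mul_index
      rw [index_eq_card] at h1
      have h2 : 2 ≤ Nat.card N :=
        Finite.one_lt_card_iff_nontrivial.mpr ((nontrivial_iff_ne_bot N).mpr hN.2.1)
      have h3 : 0 < Nat.card (G ⧸ N) := Nat.card_pos
      nlinarith
    obtain ⟨x, hx⟩ := ih (G ⧸ N) _ _ hlt (himg H hH) (himg K hK)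
    obtain ⟨x, rfl⟩ := hπs x
    rw [← Cfsg.Agent.Solvable.map_conj_smul] at hx
    have hH' := isCarterSubgroup_conj hH x
    set H' := MulAut.conj x • H with hH'def
    have hsup : H' ⊔ N = K ⊔ N := by
      rw [← Cfsg.Agent.Solvable.comap_map_mk', ← Cfsg.Agent.Solvable.comap_map_mk', hx]
    suffices ∃ g, MulAut.conj g • H' = K by
      obtain ⟨g, hg⟩ := this
      exact ⟨g * x, by rw [map_mul, mul_smul]; exact hg⟩
    by_cases htop : H' ⊔ N = ⊤
    swap
    · obtain ⟨g, -, hg⟩ := hsub _ _ _ htop le_sup_left (hsup ▸ le_sup_left) hH' hK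
      exact ⟨g, hg⟩
    have htopK : K ⊔ N = ⊤ := hsup ▸ htop
    by_cases hHtop : H' = ⊤
    · refine ⟨1, ?_⟩
      rw [map_one, one_smul]
      exact (eq_of_le_isNilpotent hH'.1 hK.2 (by rw [hHtop]; exact le_top)).symm
    obtain ⟨p, hp, hel⟩ := hN.exists_isElementaryAbelian_of_isSolvable
    have := Fact.mk hp
    have := hel.1
    obtain ⟨e, he⟩ := IsPGroup.iff_card.mp (Cfsg.Agent.Fitting.isPGroup_of_isElementaryAbelian hel)
    set m := Nat.card G / p ^ (Nat.card G).factorization p with hm
    have hmc : m.Coprime (p ^ (Nat.card G).factorization p) :=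
      (Nat.coprime_ordCompl hp Nat.card_pos.ne').symm.pow_right _
    have hGm : Nat.card G = m * p ^ (Nat.card G).factorization p := by
      rw [hm, mul_comm, Nat.ordProj_mul_ordCompl_eq_self]
    -- `p`-complements of the two subgroups
    have hallA : ∀ A : Subgroup G, Cfsg.IsCarterSubgroup A → A ⊔ N = ⊤ →
        ∃ R : Subgroup G, R ≤ A ∧ Nat.card R = m ∧ A ≤ normalizer (R : Set G) := by
      intro A hA hAN
      have h1 := Cfsg.Agent.Solvable.card_sup_mul_card_inf A N
      rw [hAN, card_top, he] at h1
      have hmA : m ∣ Nat.card A := by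
        have h2 : m ∣ Nat.card A * p ^ e := h1 ▸ Dvd.dvd.mul_right (Dvd.intro _ hGm.symm) _
        exact ((Nat.coprime_ordCompl hp Nat.card_pos.ne').symm.pow_right e).dvd_of_dvd_mul_right h2
      obtain ⟨r, hr⟩ := hmA
      have hrdvd : r ∣ p ^ (Nat.card G).factorization p := by
        have h2 : Nat.card A ∣ Nat.card G := card_subgroup_dvd_card A
        rw [hr, hGm, Nat.mul_dvd_mul_iff_left
          (Nat.pos_of_ne_zero fun h0 => by rw [h0, zero_mul] at hGm; exact Nat.card_pos.ne' hGm)] at h2
        exact h2
      have := hA.1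
      obtain ⟨R0, hR0⟩ := Cfsg.Agent.Solvable.exists_hall (G := A) (m := m) (n := r)
        (hr) (hmc.coprime_dvd_right hrdvd)
      refine ⟨R0.map A.subtype, map_subtype_le _, by
        rw [card_map_of_injective A.subtype_injective, hR0], fun a ha => ?_⟩
      rw [mem_normalizer_iff_map_conj_eq]
      refine eq_of_le_of_card_ge ?_ (card_map_of_injective (MulAut.conj a).injective).ge
      rintro _ ⟨_, ⟨y, hy, rfl⟩, rfl⟩
      refine ⟨⟨a, ha⟩ * y * ⟨a, ha⟩⁻¹, ?_, rfl⟩
      refine mem_of_coprime_index_of_isNilpotent R0 _ ?_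
      rw [show orderOf ((⟨a, ha⟩ : A) * y * ⟨a, ha⟩⁻¹) = orderOf y from
        MulEquiv.orderOf_eq (MulAut.conj _) y]
      have h2 : R0.index = r := by
        have h3 := R0.card_mul_index
        rw [hR0, hr] at h3
        exact Nat.eq_of_mul_eq_mul_left
          (Nat.pos_of_ne_zero fun h0 => by rw [h0, zero_mul] at hr; exact Nat.card_pos.ne' hr) h3
      rw [h2]
      exact (hmc.coprime_dvd_right hrdvd).coprime_dvd_left
        ((Subgroup.orderOf_dvd_natCard _ hy).trans hR0.dvd)
    obtain ⟨RH, hRH, hRHc, hRHn⟩ := hallA H' hH' htop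
    obtain ⟨RK, hRK, hRKc, hRKn⟩ := hallA K hK htopK
    obtain ⟨y, hy⟩ := Cfsg.Agent.Solvable.hall_conj hGm hmc RH RK hRHc hRKc
    have hH'' := isCarterSubgroup_conj hH' y
    set H'' := MulAut.conj y • H' with hH''def
    have htop'' : H'' ⊔ N = ⊤ := by
      rw [hH''def, ← Normal.conj_smul_eq_self y N, ← smul_sup, htop, Normal.conj_smul_eq_self]
    have hRH'' : RK ≤ H'' := hy ▸ pointwise_smul_le_pointwise_smul_iff.mpr hRH
    have hH''n : H'' ≤ normalizer (RK : Set G) := by
      rw [← hy, hH''def, pointwise_smul_def, pointwise_smul_def]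
      exact (map_mono hRHn).trans (le_normalizer_map _)
    refine ⟨y, ?_⟩
    set W := normalizer (RK : Set G) with hW
    have hWn : W ≠ ⊤ := by
      intro hWtop
      have : RK.Normal := normalizer_eq_top_iff.mp hWtop
      have hQ : IsPGroup p (G ⧸ RK) := by
        refine IsPGroup.of_card (n := (Nat.card G).factorization p) ?_
        rw [← index_eq_card]
        have h3 := RK.card_mul_index
        rw [hRKc, hGm] at h3
        exact Nat.eq_of_mul_eq_mul_left
          (Nat.pos_of_ne_zero fun h0 => by rw [h0, zero_mul] at hGm; exact Nat.card_pos.ne' hGm) h3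
      have : Group.IsNilpotent (G ⧸ RK) := hQ.isNilpotent
      have hne : H'' ≠ ⊤ := by
        intro h
        refine hHtop (eq_top_of_card_eq _ ?_)
        rw [← Cfsg.Agent.Solvable.card_conj_smul y H', ← hH''def, h, card_top]
      have hlt : H''.map (QuotientGroup.mk' RK) < ⊤ := by
        refine lt_top_iff_ne_top.mpr fun h => hne ?_
        have := congrArg (Subgroup.comap (QuotientGroup.mk' RK)) h
        rwa [Cfsg.Agent.Solvable.comap_map_mk', comap_top, sup_eq_left.mpr hRH''] at this
      obtain ⟨z, hz, hzH⟩ := SetLike.exists_of_lt (Group.normalizerCondition_of_isNilpotent _ hlt)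
      obtain ⟨g, rfl⟩ := QuotientGroup.mk'_surjective RK z
      rw [← mem_comap, comap_normalizer_eq_of_surjective _ (QuotientGroup.mk'_surjective RK),
        Cfsg.Agent.Solvable.comap_map_mk', sup_eq_left.mpr hRH'', hH''.2] at hz
      exact hzH (mem_map_of_mem _ hz)
    have hWN : N ⊓ W = ⊥ := by
      have hWtop : W ⊔ N = ⊤ := top_le_iff.mp (htop''.ge.trans (sup_le_sup_right hH''n N))
      have hnorm : (N ⊓ W).Normal := by
        rw [← normalizer_eq_top_iff, eq_top_iff, ← hWtop, sup_le_iff]
        constructor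
        · intro w hw
          rw [mem_normalizer_iff]
          intro z
          simp only [mem_inf]
          rw [mul_mem_cancel_right (inv_mem hw), mul_mem_cancel_left hw]
          refine and_congr_left fun _ => ⟨fun h => hN.1.conj_mem z h w, fun h => ?_⟩
          simpa [mul_assoc] using hN.1.conj_mem _ h w⁻¹
        · refine le_trans ?_ (centralizer_le_normalizer _)
          exact fun a ha => mem_centralizer_iff.mpr fun z hz =>
            congrArg Subtype.val (mul_comm' (⟨z, hz.1⟩ : N) ⟨a, ha⟩)
      refine (hN.2.2 _ hnorm inf_le_left).resolve_right fun h => hWn ?_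
      rwa [sup_eq_left.mpr (inf_eq_left.mp h)] at hWtop
    have hWeq : ∀ A : Subgroup G, A ≤ W → A ⊔ N = ⊤ → A = W := by
      intro A hA hAN
      refine le_antisymm hA fun w hw => ?_
      obtain ⟨a, ha, b, hb, rfl⟩ := mem_sup_of_normal_right.mp (hAN.ge (mem_top w))
      have : b ∈ N ⊓ W := ⟨hb, (mul_mem_cancel_left (hA ha)).mp hw⟩
      rw [hWN, mem_bot] at this
      rwa [this, mul_one]
    exact (hWeq _ hH''n htop'').trans (hWeq _ hRKn htopK).symm

/-- Carter subgroups of a finite solvable group are conjugate. -/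
theorem carter_conj [Group.IsSolvable G] {H K : Subgroup G} (hH : Cfsg.IsCarterSubgroup H)
    (hK : Cfsg.IsCarterSubgroup K) : ∃ g : G, MulAut.conj g • H = K :=
  carter_conj_aux (Nat.card G) G H K le_rfl hH hK

/-- Every Carter subgroup of a finite solvable group contains a system normalizer. -/
theorem exists_systemNormalizer_le [Group.IsSolvable G] {C : Subgroup G}
    (hC : Cfsg.IsCarterSubgroup C) :
    ∃ K : Nat.Primes → Subgroup G, Cfsg.IsComplementSystem K ∧ Cfsg.systemNormalizer K ≤ C := by
  obtain ⟨K, hK⟩ := Cfsg.Agent.Solvable.exists_isComplementSystem (G := G)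
  obtain ⟨C0, hC0, hle, -⟩ := exists_carter_ge_systemNormalizer hK
  obtain ⟨g, rfl⟩ := carter_conj hC0 hC
  exact ⟨_, isComplementSystem_conj hK g,
    (systemNormalizer_conj g).le.trans (pointwise_smul_le_pointwise_smul_iff.mpr hle)⟩

/-! ### Nilpotent length at most two -/

private theorem normalizer_systemNormalizer_aux : ∀ (n : ℕ) (G : Type u) [Group G] [Finite G]
    [Group.IsSolvable G] (F : Subgroup G) [F.Normal] (K : Nat.Primes → Subgroup G),
    Nat.card G ≤ n → Group.IsNilpotent F → Group.IsNilpotent (G ⧸ F) →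
    Cfsg.IsComplementSystem K →
    normalizer (Cfsg.systemNormalizer K : Set G) = Cfsg.systemNormalizer K := by
  intro n
  induction n with
  | zero => intro G _ _ _ F _ K hle; exact absurd hle (by have := Nat.card_pos (α := G); omega)
  | succ n ih =>
    intro G _ _ _ F _ K hle hF hGF hK
    rcases subsingleton_or_nontrivial G with hs | hnt
    · exact Subsingleton.elim _ _
    obtain ⟨N, hN⟩ := Cfsg.Agent.Fitting.exists_isMinNormal (G := G)
    have := hN.1
    set π := QuotientGroup.mk' N with hπ
    have hπs := QuotientGroup.mk'_surjective N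
    set D := Cfsg.systemNormalizer K with hD
    have hlt : Nat.card (G ⧸ N) ≤ n := by
      have h1 : Nat.card N * N.index = Nat.card G := N.card_mul_index
      rw [index_eq_card] at h1
      have h2 : 2 ≤ Nat.card N :=
        Finite.one_lt_card_iff_nontrivial.mpr ((nontrivial_iff_ne_bot N).mpr hN.2.1)
      have h3 : 0 < Nat.card (G ⧸ N) := Nat.card_pos
      nlinarith
    have : (F.map π).Normal := ‹F.Normal›.map π hπs
    have hq : Group.IsNilpotent ((G ⧸ N) ⧸ F.map π) := by
      have hsurj : Function.Surjective (QuotientGroup.map F (F.map π) π (le_comap_map π F)) := by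
        intro y
        obtain ⟨z, rfl⟩ := QuotientGroup.mk_surjective y
        obtain ⟨g, rfl⟩ := hπs z
        exact ⟨g, rfl⟩
      exact Group.nilpotent_of_surjective _ hsurj
    have hIH := ih (G ⧸ N) (F.map π) (fun p => (K p).map π) hlt
      (Cfsg.Agent.Fitting.isNilpotent_map π hF) hq
      (Cfsg.Agent.Solvable.isComplementSystem_map hK N)
    rw [Cfsg.Agent.Solvable.systemNormalizer_map hK N] at hIH
    have hDF : D ⊔ F = ⊤ := systemNormalizer_sup_eq_top hK F
    have hFN : F ≤ centralizer (N : Set G) :=
      (Cfsg.Agent.Fitting.le_fitting ‹F.Normal› hF).trans hN.fitting_le_centralizer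
    refine le_antisymm (fun x hx => ?_) le_normalizer
    have h1 : π x ∈ normalizer ((D.map π : Subgroup (G ⧸ N)) : Set (G ⧸ N)) :=
      le_normalizer_map π (mem_map_of_mem π hx)
    rw [hIH, ← mem_comap, Cfsg.Agent.Solvable.comap_map_mk'] at h1
    by_cases hc : N ≤ center G
    · exact sup_le le_rfl (hc.trans center_le_systemNormalizer) h1
    obtain ⟨d, hd, m, hm, rfl⟩ := mem_sup_of_normal_right.mp h1
    have hmD : m ∈ normalizer (D : Set G) := by
      simpa using mul_mem (inv_mem (le_normalizer (H := D) hd)) hx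
    have hbot : N ⊓ D = ⊥ := inf_systemNormalizer_eq_bot hK hN hc
    have hcomm : D ≤ centralizer ({m} : Set G) := by
      intro z hz
      have h2 : ⁅m, z⁆ ∈ N ⊓ D := by
        refine mem_inf.mpr ⟨?_, ?_⟩
        · rw [commutatorElement_def, mul_assoc, mul_assoc, ← mul_assoc z]
          exact mul_mem hm (hN.1.conj_mem _ (inv_mem hm) z)
        · rw [commutatorElement_def]
          exact mul_mem ((mem_normalizer_iff.mp hmD z).mp hz) (inv_mem hz)
      rw [hbot, mem_bot, commutatorElement_eq_one_iff_mul_comm] at h2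
      exact mem_centralizer_singleton_iff.mpr h2.symm
    have hall : ∀ g : G, g ∈ centralizer ({m} : Set G) := fun g => by
      refine sup_le hcomm ?_ (hDF.ge (mem_top g))
      exact hFN.trans (centralizer_le (Set.singleton_subset_iff.mpr hm))
    have hmc : m ∈ center G := mem_center_iff.mpr fun g =>
      mem_centralizer_singleton_iff.mp (hall g)
    exact mul_mem hd (center_le_systemNormalizer hmc)

/-- For nilpotent length at most two the system normalizers are Carter subgroups. -/
theorem isCarterSubgroup_systemNormalizer [Group.IsSolvable G] (F : Subgroup G) [F.Normal]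
    (hF : Group.IsNilpotent F) (hGF : Group.IsNilpotent (G ⧸ F))
    (hK : Cfsg.IsComplementSystem K) : Cfsg.IsCarterSubgroup (Cfsg.systemNormalizer K) :=
  ⟨Cfsg.Agent.Solvable.isNilpotent_systemNormalizer hK,
    normalizer_systemNormalizer_aux (Nat.card G) G F K le_rfl hF hGF hK⟩

end Cfsg.Agent.Carter
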