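import Cfsg.Agent.Lib.Fitting
import Cfsg.Agent.Lib.Fitting.Minimal
import Cfsg.Agent.Lib.Solvable.Supersolvable
import Cfsg.Agent.Lib.Solvable.Basic
import Mathlib.GroupTheory.Sylow
import Mathlib.GroupTheory.SpecificGroups.Cyclic
import Mathlib.FieldTheory.Finite.Basic
import Mathlib.Algebra.Module.ZMod
import Mathlib.Algebra.Polynomial.AlgebraMap

/-!
# Huppert's criterion for supersolvability
-/

set_option autoImplicit false

open Subgroup
open scoped commutatorElement

namespace Cfsg.Agent.Huppert

open Cfsg.Agent.Solvable (isSupersolvable_quotient exists_normal_prime_card card_quotient_lt)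

universe u

section Eigen

open Polynomial

/-- An automorphism of exponent dividing `p - 1` of a group of exponent `p` has an eigenvector. -/
theorem exists_power_eigen {p : ℕ} [Fact p.Prime] {A : Type*} [CommGroup A] [Nontrivial A]
    (hA : ∀ a : A, a ^ p = 1) (e : MulAut A) (he : e ^ (p - 1) = 1) :
    ∃ x : A, x ≠ 1 ∧ ∃ i : ℕ, e x = x ^ i := by
  letI : Module (ZMod p) (Additive A) :=
    AddCommGroup.zmodModule (n := p) fun v => show p • v = 0 from congrArg Additive.ofMul (hA v.toMul)
  let T : Module.End (ZMod p) (Additive A) :=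
    (MonoidHom.toAdditive e.toMonoidHom).toZModLinearMap p
  have hT1 : ∀ v : Additive A, T v = Additive.ofMul (e v.toMul) := fun v => rfl
  have hTk : ∀ (k : ℕ) (v : Additive A), (T ^ k) v = Additive.ofMul ((e ^ k) v.toMul) := by
    intro k
    induction k with
    | zero => intro v; simp
    | succ k ih => intro v; rw [pow_succ', Module.End.mul_apply, ih, hT1, pow_succ']; rfl
  have hep : e ^ p = e := by
    conv_lhs => rw [← Nat.sub_add_cancel (Fact.out (p := p.Prime)).one_le, pow_succ, he, one_mul]
  have hP : ∀ v : Additive A, aeval T (X ^ p - X : (ZMod p)[X]) v = 0 := fun v => by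
    simp only [map_sub, map_pow, aeval_X, LinearMap.sub_apply]
    rw [hTk, hep, hT1, sub_self]
  have hprod : ((Finset.univ : Finset (ZMod p)).val.map fun a => X - C a).prod
      = (X ^ p - X : (ZMod p)[X]) := by
    have h1 : 1 < p := (Fact.out (p := p.Prime)).one_lt
    have hr := FiniteField.roots_X_pow_card_sub_X (ZMod p)
    rw [ZMod.card] at hr
    rw [← hr]
    refine prod_multiset_X_sub_C_of_monic_of_roots_card_eq
      (monic_X_pow_sub (by rw [degree_X]; exact_mod_cast h1)) ?_
    rw [hr, FiniteField.X_pow_card_sub_X_natDegree_eq _ h1, Finset.card_val, Finset.card_univ,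
      ZMod.card]
  have key : ∀ (s : Multiset (ZMod p)) (v : Additive A), v ≠ 0 →
      aeval T (s.map fun a => X - C a).prod v = 0 →
      ∃ (a : ZMod p) (w : Additive A), w ≠ 0 ∧ T w = a • w := by
    intro s
    induction s using Multiset.induction_on with
    | empty => intro v hv h; simp at h; exact absurd h hv
    | cons a s ih =>
      intro v hv h
      rw [Multiset.map_cons, Multiset.prod_cons, map_mul, Module.End.mul_apply] at h
      by_cases hw : aeval T (s.map fun a => X - C a).prod v = 0
      · exact ih v hv hw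
      · refine ⟨a, _, hw, ?_⟩
        simpa [sub_eq_zero, Module.algebraMap_end_apply] using h
  obtain ⟨a0, ha0⟩ := exists_ne (1 : A)
  obtain ⟨a, w, hw, hTw⟩ := key _ (Additive.ofMul a0) (fun h => ha0 (congrArg Additive.toMul h))
    (by rw [hprod]; exact hP _)
  refine ⟨w.toMul, fun h => hw (congrArg Additive.ofMul h), a.val, ?_⟩
  rw [← ZMod.natCast_zmod_val a, Nat.cast_smul_eq_nsmul, hT1] at hTw
  exact congrArg Additive.toMul hTw

end Eigen

variable {G : Type u} [Group G] [Finite G]

/-- A minimal normal subgroup of a supersolvable group has prime order. -/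
theorem card_minimal_normal_prime_aux : ∀ (n : ℕ) (G : Type u) [Group G] [Finite G],
    Nat.card G ≤ n → Cfsg.IsSupersolvable G → ∀ R : Subgroup G, Cfsg.Agent.Fitting.IsMinNormal R →
      (Nat.card R).Prime := by
  intro n
  induction n with
  | zero => intro G _ _ h; exact absurd Nat.card_pos (by omega : ¬ 0 < Nat.card G)
  | succ n ih =>
    intro G _ _ hn hG R hR
    have : Nontrivial G := by
      obtain ⟨x, -, hx⟩ : ∃ x, x ∈ R ∧ x ≠ 1 := by
        by_contra h'
        push Not at h'
        exact hR.2.1 ((eq_bot_iff_forall _).mpr h')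
      exact ⟨⟨x, 1, hx⟩⟩
    obtain ⟨N, hN, hp⟩ := exists_normal_prime_card hG
    have hNb : N ≠ ⊥ := fun h => hp.ne_one (card_eq_one.2 h)
    rcases hR.2.2 (R ⊓ N) (by have := hR.1; infer_instance) inf_le_left with h | h
    · -- `R` and `N` meet trivially: the image of `R` is minimal normal
      have hsurj := QuotientGroup.mk'_surjective N
      have hcard : Nat.card (R.map (QuotientGroup.mk' N)) = Nat.card R := by
        have := Cfsg.Agent.Solvable.card_map_mk'_mul R N
        rwa [h, card_bot, mul_one] at this
      rw [← hcard]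
      refine ih _ (by have := card_quotient_lt N hNb; omega) (isSupersolvable_quotient N hG) _
        ⟨hR.1.map _ hsurj, fun h0 => hR.2.1 (eq_bot_of_card_eq R (by rw [← hcard, h0, card_bot])),
          fun S hS hle => ?_⟩
      have hSn := hS.comap (QuotientGroup.mk' N)
      have hR1 := hR.1
      rcases hR.2.2 (R ⊓ S.comap (QuotientGroup.mk' N)) inferInstance inf_le_left with h1 | h1
      · left
        rw [eq_bot_iff_forall]
        intro y hy
        obtain ⟨r, hr, rfl⟩ := hle hy
        rw [(eq_bot_iff_forall _).mp h1 r ⟨hr, hy⟩, map_one]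
      · right
        refine le_antisymm hle ?_
        exact map_le_iff_le_comap.mpr (h1.ge.trans inf_le_right)
    · have hle : R ≤ N := inf_eq_left.mp h
      rcases hp.eq_one_or_self_of_dvd _ (card_dvd_of_le hle) with h1 | h1
      · exact absurd (eq_bot_of_card_eq R h1) hR.2.1
      · exact h1 ▸ hp

theorem card_minimal_normal_prime (hG : Cfsg.IsSupersolvable G) {R : Subgroup G}
    (hR : Cfsg.Agent.Fitting.IsMinNormal R) : (Nat.card R).Prime :=
  card_minimal_normal_prime_aux (Nat.card G) G le_rfl hG R hR

/-- In a supersolvable group, `(p-1)`-st powers act nilpotently on normal `p`-subgroups. -/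
theorem isNilpotent_sup_zpowers_aux : ∀ (n : ℕ) (G : Type u) [Group G] [Finite G],
    Nat.card G ≤ n → Cfsg.IsSupersolvable G → ∀ (p : ℕ) [Fact p.Prime] (P : Subgroup G),
      P.Normal → IsPGroup p P → ∀ g : G,
      Group.IsNilpotent ↥(P ⊔ zpowers (g ^ (p - 1))) := by
  intro n
  induction n with
  | zero => intro G _ _ h; exact absurd Nat.card_pos (by omega : ¬ 0 < Nat.card G)
  | succ n ih =>
    intro G _ _ hn hG p _ P hPn hPp g
    by_cases hP : P = ⊥
    · rw [hP, bot_sup_eq]
      exact Subgroup.nilpotent_iff_lowerCentralSeries.mpr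
        ⟨1, Subgroup.lowerCentralSeries_one_eq_bot_iff.mpr inferInstance⟩
    set X := P ⊔ zpowers (g ^ (p - 1)) with hX
    obtain ⟨R, hR, hRP⟩ := Cfsg.Agent.Fitting.exists_isMinNormal_le hPn hP
    have hRn : R.Normal := hR.1
    have hRpr := card_minimal_normal_prime hG hR
    have hRc : Nat.card R = p := by
      obtain ⟨k, hk⟩ := IsPGroup.iff_card.mp (hPp.to_le hRP)
      exact ((Nat.prime_dvd_prime_iff_eq hRpr Fact.out).mp
        (hRpr.dvd_of_dvd_pow hk.dvd))
    have : IsCyclic R := Cfsg.Agent.Solvable.isCyclic_of_card_prime hRpr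
    let ρ : G →* MulAut R := MulAut.conjNormal
    have hρ : Nat.card (MulAut R) = p - 1 := by
      rw [IsCyclic.card_mulAut, hRc, Nat.totient_prime Fact.out]
    have hXle : X ≤ ρ.ker := by
      refine sup_le ?_ (zpowers_le.mpr ?_)
      · -- `P` centralises the normal subgroup `R` of order `p`
        have := hPp.isNilpotent
        have hne : R.subgroupOf P ≠ ⊥ := fun h =>
          hR.2.1 (disjoint_self.mp ((subgroupOf_eq_bot.mp h).mono_right hRP))
        have h := Cfsg.Agent.Fitting.inf_center_ne_bot hne
        obtain ⟨z, hz, hz1⟩ : ∃ z, z ∈ R.subgroupOf P ⊓ center P ∧ z ≠ 1 := by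
          by_contra h'
          push Not at h'
          exact h ((eq_bot_iff_forall _).mpr h')
        intro x hx
        rw [MonoidHom.mem_ker]
        refine MulEquiv.ext fun r => Subtype.ext ?_
        have hcent : x ∈ centralizer (R : Set G) := by
          have h1 : R ≤ centralizer ({x} : Set G) := by
            have hgen : R ⊓ centralizer ({x} : Set G) = R := by
              rcases hRpr.eq_one_or_self_of_dvd _
                (card_dvd_of_le (inf_le_left : R ⊓ centralizer ({x} : Set G) ≤ R)) with h1 | h1
              · have hz' : (z : G) ∈ R ⊓ centralizer ({x} : Set G) :=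
                  ⟨hz.1, mem_centralizer_singleton_iff.mpr
                    (congrArg Subtype.val (mem_center_iff.mp hz.2 ⟨x, hx⟩)).symm⟩
                rw [eq_bot_of_card_eq _ h1, mem_bot] at hz'
                exact absurd (Subtype.ext hz') hz1
              · exact eq_of_le_of_card_ge inf_le_left h1.ge
            exact inf_eq_left.mp hgen
          exact mem_centralizer_iff.mpr fun r hr =>
            (mem_centralizer_singleton_iff.mp (h1 hr))
        change x * (r : G) * x⁻¹ = r
        rw [← mem_centralizer_iff.mp hcent r r.2, mul_inv_cancel_right]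
      · rw [MonoidHom.mem_ker, map_pow, ← hρ, pow_card_eq_one']
    let π := (QuotientGroup.mk' R).subgroupMap X
    have hker : π.ker ≤ center X := by
      intro x hx
      have hxR : (x : G) ∈ R :=
        (QuotientGroup.eq_one_iff _).mp (congrArg Subtype.val (MonoidHom.mem_ker.mp hx))
      refine mem_center_iff.mpr fun y => Subtype.ext ?_
      have h1 := congrArg Subtype.val
        (DFunLike.congr_fun (MonoidHom.mem_ker.mp (hXle y.2)) (⟨x, hxR⟩ : R))
      simp [ρ] at h1
      exact mul_inv_eq_iff_eq_mul.mp h1
    have hXq : Group.IsNilpotent (X.map (QuotientGroup.mk' R)) := by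
      rw [hX, Subgroup.map_sup, MonoidHom.map_zpowers, map_pow]
      exact ih _ (by have := card_quotient_lt R hR.2.1; omega) (isSupersolvable_quotient R hG) p _
        (hPn.map _ (QuotientGroup.mk'_surjective R)) (hPp.map _) _
    exact Subgroup.isNilpotent_of_ker_le_center π hker

theorem isNilpotent_sup_zpowers (hG : Cfsg.IsSupersolvable G) {p : ℕ} [Fact p.Prime]
    (P : Subgroup G) [hPn : P.Normal] (hP : IsPGroup p P) (g : G) :
    Group.IsNilpotent ↥(P ⊔ zpowers (g ^ (p - 1))) :=
  isNilpotent_sup_zpowers_aux (Nat.card G) G le_rfl hG p P hPn hP g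

omit [Finite G] in
theorem inherits {H : Type*} [Group H] (f : G →* H) (hf : Function.Surjective f)
    (h : ∀ M : Subgroup G, IsCoatom M → M.index.Prime) :
    ∀ M : Subgroup H, IsCoatom M → M.index.Prime := by
  intro M hM
  rw [← index_comap_of_surjective (H := M) hf]
  refine h _ ⟨fun h1 => hM.1 ?_, fun X hX => ?_⟩
  · rw [← map_comap_eq_self_of_surjective hf M, h1, map_top_of_surjective _ hf]
  · have hker : f.ker ≤ X := (comap_mono (f := f) (bot_le (a := M))).trans hX.le
    have hlt : M < X.map f := by
      refine lt_of_le_of_ne ?_ fun he => hX.ne ?_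
      · rw [← map_comap_eq_self_of_surjective hf M]; exact map_mono hX.le
      · rw [he, comap_map_eq_self hker]
    rw [← comap_map_eq_self hker, hM.2 _ hlt, comap_top]

/-- The Sylow subgroup of the largest prime is normal. -/
theorem sylow_normal (h : ∀ M : Subgroup G, IsCoatom M → M.index.Prime) {p : ℕ} [Fact p.Prime]
    (hmax : ∀ r : ℕ, r.Prime → r ∣ Nat.card G → r ≤ p) (P : Sylow p G) :
    (P : Subgroup G).Normal := by
  by_contra hn
  obtain ⟨M, hM, hle⟩ := (eq_top_or_exists_le_coatom (normalizer ((P : Subgroup G) : Set G))).resolve_left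
    fun h1 => hn (normalizer_eq_top_iff.mp h1)
  have hq := h M hM
  have hPM : (P : Subgroup G) ≤ M := le_normalizer.trans hle
  let PM : Sylow p M := P.subtype hPM
  have h1 : (normalizer ((P : Subgroup G) : Set G)).relIndex M = Nat.card (Sylow p M) := by
    rw [PM.card_eq_index_normalizer, relIndex]
    congr 1
    ext x
    show (x : G) ∈ normalizer ((P : Subgroup G) : Set G) ↔ x ∈ normalizer ((PM : Subgroup M) : Set M)
    rw [mem_normalizer_iff, mem_normalizer_iff]
    constructor
    · intro hx y
      exact hx (y : G)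
    · intro hx y
      constructor
      · intro hy
        exact (hx ⟨y, hPM hy⟩).mp hy
      · intro hy
        have hyM : y ∈ M := by
          have := mul_mem (mul_mem (inv_mem x.2) (hPM hy)) x.2
          simpa [mul_assoc] using this
        exact (hx ⟨y, hyM⟩).mpr hy
  have h2 := relIndex_mul_index hle
  rw [h1] at h2
  replace h2 := h2.trans P.card_eq_index_normalizer.symm
  have h3 : M.index ≡ 1 [MOD p] := by
    have := card_sylow_modEq_one p G
    rw [← h2] at this
    have h4 := (card_sylow_modEq_one p M).mul_right M.index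
    rw [one_mul] at h4
    exact h4.symm.trans this
  have hqp : M.index ≤ p := hmax _ hq (M.index_dvd_card)
  rcases hqp.lt_or_eq with hlt | heq
  · rw [Nat.ModEq, Nat.mod_eq_of_lt hlt, Nat.mod_eq_of_lt (Fact.out (p := p.Prime)).one_lt] at h3
    exact hq.ne_one h3
  · rw [heq, Nat.ModEq, Nat.mod_self, Nat.mod_eq_of_lt (Fact.out (p := p.Prime)).one_lt] at h3
    exact zero_ne_one h3

theorem huppert_aux : ∀ (n : ℕ) (G : Type u) [Group G] [Finite G], Nat.card G ≤ n →
    (∀ M : Subgroup G, IsCoatom M → M.index.Prime) → Cfsg.IsSupersolvable G := by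
  intro n
  induction n with
  | zero => intro G _ _ h; exact absurd Nat.card_pos (by omega : ¬ 0 < Nat.card G)
  | succ n ih =>
    intro G _ _ hn h
    rcases subsingleton_or_nontrivial G with hs | hs
    · exact Cfsg.Agent.Solvable.isSupersolvable_of_subsingleton
    have hquot : ∀ (N : Subgroup G) [N.Normal], N ≠ ⊥ → Cfsg.IsSupersolvable (G ⧸ N) :=
      fun N _ hN => ih _ (by have := card_quotient_lt N hN; omega)
        (inherits _ (QuotientGroup.mk'_surjective N) h)
    by_contra hss
    -- the largest prime and its Sylow subgroup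
    have hne : (Nat.card G).primeFactors.Nonempty :=
      Nat.nonempty_primeFactors.mpr Finite.one_lt_card
    set p := (Nat.card G).primeFactors.max' hne with hpdef
    have hpm := Nat.mem_primeFactors.mp ((Nat.card G).primeFactors.max'_mem hne)
    have := Fact.mk hpm.1
    obtain ⟨P⟩ : Nonempty (Sylow p G) := inferInstance
    have hPn : (P : Subgroup G).Normal := sylow_normal h
      (fun r hr hd => Finset.le_max' _ r (Nat.mem_primeFactors.mpr ⟨hr, hd, hpm.2.2⟩)) P
    have hPne : (P : Subgroup G) ≠ ⊥ := P.ne_bot_of_dvd_card hpm.2.1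
    have hPnil : Group.IsNilpotent (P : Subgroup G) := P.2.isNilpotent
    have hsolv : Group.IsSolvable G := by
      have := Cfsg.Agent.Solvable.isSolvable_of_isSupersolvable (hquot (P : Subgroup G) hPne)
      exact (Group.isSolvable_iff_subgroup_quotient (P : Subgroup G)).2 ⟨inferInstance, inferInstance⟩
    obtain ⟨N, hN⟩ := Cfsg.Agent.Fitting.exists_isMinNormal (G := G)
    have hNn : N.Normal := hN.1
    have hNab : IsMulCommutative N := hN.isMulCommutative
    -- uniqueness
    have huniq : ∀ Y : Subgroup G, Y.Normal → Y ≠ ⊥ → N ≤ Y := by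
      intro Y hY hYne
      refine (hN.le_or_inf_eq_bot Y).resolve_right fun hd => hss ?_
      have hs2 := Cfsg.Agent.Solvable.isSupersolvable_subgroup
        (Cfsg.Agent.Solvable.isSupersolvable_prod (hquot N hN.2.1) (hquot Y hYne))
        ((QuotientGroup.mk' N).prod (QuotientGroup.mk' Y)).range
      have hinj : Function.Injective ((QuotientGroup.mk' N).prod (QuotientGroup.mk' Y)) := by
        rw [← MonoidHom.ker_eq_bot_iff, MonoidHom.ker_prod, QuotientGroup.ker_mk',
          QuotientGroup.ker_mk', hd]
      exact Cfsg.Agent.Solvable.isSupersolvable_of_surjective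
        (MonoidHom.ofInjective hinj).symm.toMonoidHom
        (MonoidHom.ofInjective hinj).symm.surjective hs2
    have hNP : N ≤ (P : Subgroup G) := huniq _ hPn hPne
    -- `N` lies in the Frattini subgroup
    have hNΦ : N ≤ frattini G := by
      refine le_iInf₂ fun M hM => ?_
      by_contra hNM
      have hsup := Cfsg.Agent.Solvable.sup_eq_top_of_coatom hM hNM
      have hc := (h M hM)
      have hinf' : N ⊓ M = ⊥ := by
        have hn1 : (N ⊓ M).Normal := by
          refine ⟨fun x hx g => ?_⟩
          obtain ⟨m, hm, y, hy, rfl⟩ := mem_sup_of_normal_right.mp (((sup_comm M N).trans hsup).ge (mem_top g))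
          have h1 : y * x * y⁻¹ = x := by
            have := congrArg Subtype.val (mul_comm' (⟨y, hy⟩ : N) ⟨x, hx.1⟩)
            simp only [Subgroup.coe_mul] at this
            rw [this, mul_inv_cancel_right]
          have h2 : m * y * x * (m * y)⁻¹ = m * (y * x * y⁻¹) * m⁻¹ := by simp [mul_assoc]
          rw [h2, h1]
          exact mem_inf.mpr ⟨hNn.conj_mem x hx.1 m, mul_mem (mul_mem hm hx.2) (inv_mem hm)⟩
        exact (hN.2.2 _ hn1 inf_le_left).resolve_right fun he => hNM (he.ge.trans inf_le_right)
      rw [(Cfsg.Agent.Solvable.isComplement'_of_normal_sup_inf hinf' hsup).index_eq_card] at hc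
      have : IsCyclic N := Cfsg.Agent.Solvable.isCyclic_of_card_prime hc
      exact hss (Cfsg.Agent.Solvable.isSupersolvable_of_cyclic_normal N (hquot N hN.2.1))
    -- normal nilpotent subgroups lie in `P`
    have hnilP : ∀ Y : Subgroup G, Y.Normal → Group.IsNilpotent Y → Y ≤ (P : Subgroup G) := by
      intro Y hY hYnil
      have hYp : IsPGroup p Y := by
        refine IsPGroup.of_card (n := (Nat.card Y).factorization p) ?_
        refine (Nat.eq_pow_of_factorization_eq_single Nat.card_pos.ne' ?_)
        ext r
        rcases eq_or_ne r p with rfl | hrp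
        · simp
        rw [Finsupp.single_eq_of_ne hrp]
        by_contra hne0
        have hr : r ∈ (Nat.card Y).factorization.support := Finsupp.mem_support_iff.mpr hne0
        rw [Nat.support_factorization, Nat.mem_primeFactors] at hr
        have := Fact.mk hr.1
        obtain ⟨S⟩ : Nonempty (Sylow r Y) := inferInstance
        have hSn : (S : Subgroup Y).Normal := inferInstance
        have hSc : (S : Subgroup Y).Characteristic := S.characteristic_of_normal hSn
        have hSne : (S : Subgroup Y).map Y.subtype ≠ ⊥ := by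
          rw [Ne, map_eq_bot_iff_of_injective _ Y.subtype_injective]
          exact S.ne_bot_of_dvd_card hr.2.1
        have hle := huniq _ (inferInstance : ((S : Subgroup Y).map Y.subtype).Normal) hSne
        obtain ⟨x, hxN, hx1⟩ : ∃ x, x ∈ N ∧ x ≠ 1 := by
          by_contra h'
          push Not at h'
          exact hN.2.1 ((eq_bot_iff_forall _).mpr h')
        obtain ⟨k, hk⟩ := IsPGroup.iff_orderOf.mp (P.2.to_le hNP) ⟨x, hxN⟩
        obtain ⟨l, hl⟩ := IsPGroup.iff_orderOf.mp ((S.2.map _).to_le hle) ⟨x, hxN⟩
        have := Nat.coprime_pow_primes l k hr.1 hpm.1 hrp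
        rw [← hk, ← hl, Nat.coprime_self] at this
        rw [← Subgroup.orderOf_coe, orderOf_eq_one_iff] at this
        exact hx1 this
      obtain ⟨Q, hQ⟩ := hYp.exists_le_sylow
      have : Subsingleton (Sylow p G) := ⟨fun A B => by
        obtain ⟨a, ha⟩ := MulAction.exists_smul_eq G P A
        obtain ⟨b, hb⟩ := MulAction.exists_smul_eq G P B
        rw [← ha, ← hb, Sylow.smul_eq_iff_mem_normalizer.mpr (normalizer_eq_top (H := (P : Subgroup G)) ▸ mem_top a),
          Sylow.smul_eq_iff_mem_normalizer.mpr (normalizer_eq_top (H := (P : Subgroup G)) ▸ mem_top b)]⟩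
      exact hQ.trans (Subsingleton.elim Q P ▸ le_rfl)
    -- lifting nilpotence modulo `N`
    have hlift : ∀ A : Subgroup G, A.Normal → N ≤ A →
        Group.IsNilpotent (A.map (QuotientGroup.mk' N)) → A ≤ (P : Subgroup G) := by
      intro A hA hNA hnil
      refine hnilP A hA (Cfsg.Agent.Fitting.isNilpotent_of_quotient_le_frattini A N hNΦ ?_)
      have hkeq : ((QuotientGroup.mk' N).subgroupMap A).ker = N.subgroupOf A := by
        ext x
        rw [MonoidHom.mem_ker, mem_subgroupOf, ← QuotientGroup.eq_one_iff (N := N), Subtype.ext_iff]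
        rfl
      exact Group.nilpotent_of_mulEquiv ((QuotientGroup.quotientMulEquivOfEq hkeq).symm.trans
        (QuotientGroup.quotientKerEquivOfSurjective _
          (MonoidHom.subgroupMap_surjective (QuotientGroup.mk' N) A))).symm
    have hGN := hquot N hN.2.1
    have hcomm : commutator G ≤ (P : Subgroup G) := by
      refine le_sup_left.trans (hlift (commutator G ⊔ N) inferInstance le_sup_right ?_)
      have h1 : (commutator G ⊔ N).map (QuotientGroup.mk' N) = commutator (G ⧸ N) := by
        rw [Subgroup.map_sup, QuotientGroup.map_mk'_self, sup_bot_eq, commutator_def, commutator_def,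
          map_commutator, map_top_of_surjective _ (QuotientGroup.mk'_surjective N)]
      rw [h1]
      exact Cfsg.Agent.Solvable.isNilpotent_commutator hGN
    have hpow : ∀ g : G, g ^ (p - 1) ∈ (P : Subgroup G) := by
      intro g
      refine hlift ((P : Subgroup G) ⊔ zpowers (g ^ (p - 1))) ?_ (hNP.trans le_sup_left) ?_
        (mem_sup_right (mem_zpowers _))
      · refine ⟨fun x hx y => ?_⟩
        have h1 : ⁅y, x⁆ ∈ (P : Subgroup G) :=
          hcomm (commutator_mem_commutator (mem_top y) (mem_top x))
        have := mul_mem (mem_sup_left h1 : ⁅y, x⁆ ∈ (P : Subgroup G) ⊔ zpowers (g ^ (p - 1))) hx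
        simpa [commutatorElement_def, mul_assoc] using this
      · rw [Subgroup.map_sup, MonoidHom.map_zpowers, map_pow]
        have := hPn.map (QuotientGroup.mk' N) (QuotientGroup.mk'_surjective N)
        exact isNilpotent_sup_zpowers hGN _ (P.2.map _) _
    -- the action on `N`
    have hPN : ∀ y ∈ (P : Subgroup G), ∀ x ∈ N, y * x = x * y := by
      have hne : N.subgroupOf (P : Subgroup G) ≠ ⊥ := fun h1 =>
        hN.2.1 (disjoint_self.mp ((subgroupOf_eq_bot.mp h1).mono_right hNP))
      have h1 := Cfsg.Agent.Fitting.inf_center_ne_bot hne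
      set K := N ⊓ centralizer ((P : Subgroup G) : Set G) with hK
      have hKn : K.Normal := inferInstance
      rcases hN.2.2 K hKn inf_le_left with h2 | h2
      · refine absurd ((eq_bot_iff_forall _).mpr fun z hz => Subtype.ext ?_) h1
        refine (eq_bot_iff_forall _).mp h2 (z : G) (mem_inf.mpr ⟨hz.1, ?_⟩)
        exact mem_centralizer_iff.mpr fun y hy =>
          congrArg Subtype.val (mem_center_iff.mp hz.2 ⟨y, hy⟩)
      · exact fun y hy x hx => mem_centralizer_iff.mp (h2.ge hx).2 y hy
    obtain ⟨r, hr, hel⟩ := hN.exists_isElementaryAbelian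
    have hNp : IsPGroup p N := P.2.to_le hNP
    have hnt : Nontrivial N := (nontrivial_iff_ne_bot N).mpr hN.2.1
    have hrp : r = p := by
      obtain ⟨x, hx⟩ := exists_ne (1 : N)
      obtain ⟨k, hk⟩ := IsPGroup.iff_orderOf.mp hNp x
      have h1 : orderOf x ∣ r := orderOf_dvd_of_pow_eq_one (Subtype.ext (hel.2 x x.2))
      have hk0 : k ≠ 0 := fun h0 => hx (orderOf_eq_one_iff.mp (by rw [hk, h0, pow_zero]))
      exact ((Nat.prime_dvd_prime_iff_eq hpm.1 hr).mp
        ((dvd_pow_self p hk0).trans (hk ▸ h1))).symm
    subst hrp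
    letI : CommGroup N := { (inferInstance : Group N) with mul_comm := mul_comm' }
    let ρ : G →* MulAut N := MulAut.conjNormal
    have hscal : ∀ g : G, ∃ i : ℕ, ∀ x ∈ N, g * x * g⁻¹ = x ^ i := by
      intro g
      obtain ⟨x, hx1, i, hi⟩ := exists_power_eigen (p := p) (A := N)
        (fun a => Subtype.ext (hel.2 a a.2)) (ρ g) (by
          rw [← map_pow]
          refine MulEquiv.ext fun y => Subtype.ext ?_
          change g ^ (p - 1) * (y : G) * (g ^ (p - 1))⁻¹ = y
          rw [hPN _ (hpow g) y y.2, mul_inv_cancel_right])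
      have hcN : ∀ a ∈ N, ∀ b ∈ N, Commute a b := fun a ha b hb =>
        congrArg Subtype.val (mul_comm' (⟨a, ha⟩ : N) ⟨b, hb⟩)
      let K : Subgroup G :=
        { carrier := {y | y ∈ N ∧ g * y * g⁻¹ = y ^ i}
          one_mem' := ⟨one_mem _, by simp⟩
          mul_mem' := fun {a b} ha hb => ⟨mul_mem ha.1 hb.1, by
            rw [(hcN a ha.1 b hb.1).mul_pow, ← conj_mul, ha.2, hb.2]⟩
          inv_mem' := fun {a} ha => ⟨inv_mem ha.1, by rw [inv_pow, ← ha.2]; group⟩ }
      have hKn : K.Normal := ⟨fun y hy k => ⟨hNn.conj_mem y hy.1 k, by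
        have hc : ∀ z ∈ N, k⁻¹ * g * k * g⁻¹ * z * (k⁻¹ * g * k * g⁻¹)⁻¹ = z := fun z hz => by
          have hmem : k⁻¹ * g * k * g⁻¹ ∈ (P : Subgroup G) := by
            have := hcomm (commutator_mem_commutator (mem_top k⁻¹) (mem_top g))
            rwa [commutatorElement_def, inv_inv] at this
          rw [hPN _ hmem z hz, mul_inv_cancel_right]
        calc g * (k * y * k⁻¹) * g⁻¹
            = k * (k⁻¹ * g * k * g⁻¹ * (g * y * g⁻¹) * (k⁻¹ * g * k * g⁻¹)⁻¹) * k⁻¹ := by
              simp [mul_assoc]
          _ = (k * y * k⁻¹) ^ i := by rw [hy.2, hc _ (pow_mem hy.1 i), conj_pow]⟩⟩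
      rcases hN.2.2 K hKn (fun y hy => hy.1) with h1 | h1
      · refine absurd (Subtype.ext ((eq_bot_iff_forall _).mp h1 (x : G) ⟨x.2, ?_⟩)) hx1
        have := congrArg Subtype.val hi
        simpa [ρ] using this
      · exact ⟨i, fun y hy => (h1.ge hy).2⟩
    obtain ⟨x, hx⟩ := exists_ne (1 : N)
    have hzn : (zpowers (x : G)).Normal := ⟨fun y hy g => by
      obtain ⟨i, hi⟩ := hscal g
      rw [hi y (zpowers_le.mpr x.2 hy)]
      exact pow_mem hy i⟩
    have hzN : zpowers (x : G) = N := (hN.2.2 _ hzn (zpowers_le.mpr x.2)).resolve_left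
      fun h1 => hx (Subtype.ext (zpowers_eq_bot.mp h1))
    have : IsCyclic N := hzN ▸ inferInstance
    exact hss (Cfsg.Agent.Solvable.isSupersolvable_of_cyclic_normal N hGN)

/-- Huppert's criterion: if all maximal subgroups have prime index the group is supersolvable. -/
theorem isSupersolvable_of_maximal_prime_index
    (h : ∀ M : Subgroup G, IsCoatom M → M.index.Prime) : Cfsg.IsSupersolvable G :=
  huppert_aux (Nat.card G) G le_rfl h

end Cfsg.Agent.Huppert
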