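import Cfsg.Agent.Lib.Solvable.Supersolvable
import Cfsg.Agent.Lib.Solvable.Conj
import Mathlib.GroupTheory.Sylow

/-!
# Supersolvable groups: the Sylow tower and conjugacy of supersolvable Hall subgroups
-/

set_option autoImplicit false

open Subgroup
open scoped Pointwise

namespace Cfsg.Agent.SupersolvableHall

open Cfsg.Agent.Solvable

universe u

theorem sylow_normal_aux : ∀ (n : ℕ) (G : Type u) [Group G] [Finite G], Nat.card G ≤ n →
    Cfsg.IsSupersolvable G → ∀ {q : ℕ} [Fact q.Prime],
      (∀ r : ℕ, r.Prime → r ∣ Nat.card G → r ≤ q) → ∀ P : Sylow q G, (P : Subgroup G).Normal := by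
  intro n
  induction n with
  | zero => intro G _ _ h; exact absurd Nat.card_pos (by omega : ¬ 0 < Nat.card G)
  | succ n ih =>
    intro G _ _ hn hG q _ hmax P
    have hq : q.Prime := Fact.out
    by_cases hdvd : q ∣ Nat.card G
    swap
    · have : (P : Subgroup G) = ⊥ := by
        refine eq_bot_of_card_eq _ ?_
        rw [P.card_eq_multiplicity, Nat.factorization_eq_zero_of_not_dvd hdvd, pow_zero]
      rw [this]; infer_instance
    obtain ⟨N, hN, hNc⟩ := exists_normal_card_eq_max_prime hG hq hdvd hmax
    have hNb : N ≠ ⊥ := fun h => hq.ne_one (by rw [← hNc, h, card_bot])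
    have hlt : Nat.card (G ⧸ N) < Nat.card G := card_quotient_lt N hNb
    have hPn := ih (G ⧸ N) (by omega) (isSupersolvable_quotient N hG)
      (fun r hr h => hmax r hr (h.trans (card_quotient_dvd_card N)))
      (P.mapSurjective (QuotientGroup.mk'_surjective N))
    have hNP : N ≤ P := by
      have hNp : IsPGroup q N := IsPGroup.of_card (n := 1) (by rw [hNc, pow_one])
      obtain ⟨Q, hQ⟩ := hNp.exists_le_sylow
      obtain ⟨g, hg⟩ := MulAction.exists_smul_eq G Q P
      rw [← hg, Sylow.coe_subgroup_smul]
      intro x hx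
      refine Subgroup.mem_pointwise_smul_iff_inv_smul_mem.mpr (hQ ?_)
      rw [← map_inv, MulAut.smul_def, MulAut.conj_apply]
      exact hN.conj_mem x hx _
    have h2 := Subgroup.Normal.comap hPn (QuotientGroup.mk' N)
    rwa [Sylow.coe_mapSurjective, comap_map_eq, QuotientGroup.ker_mk', sup_eq_left.mpr hNP] at h2

/-- In a supersolvable group the Sylow subgroup of the largest prime is normal. -/
theorem sylow_normal_of_max_prime {G : Type u} [Group G] [Finite G] (hG : Cfsg.IsSupersolvable G)
    {q : ℕ} [Fact q.Prime] (hmax : ∀ r : ℕ, r.Prime → r ∣ Nat.card G → r ≤ q) (P : Sylow q G) :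
    (P : Subgroup G).Normal :=
  sylow_normal_aux (Nat.card G) G le_rfl hG hmax P

theorem hall_conj_aux : ∀ (n : ℕ) (G : Type u) [Group G] [Finite G] (H K : Subgroup G),
    Nat.card H ≤ n → Cfsg.IsSupersolvable H → Cfsg.IsSupersolvable K →
    Nat.card H = Nat.card K → (Nat.card H).Coprime H.index →
    ∃ x : G, MulAut.conj x • H = K := by
  intro n
  induction n with
  | zero => intro G _ _ H K h; exact absurd Nat.card_pos (by omega : ¬ 0 < Nat.card H)
  | succ n ih =>
    intro G _ _ H K hn hH hK hc hhall
    by_cases h1 : Nat.card H = 1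
    · exact ⟨1, by rw [map_one, one_smul, eq_bot_of_card_eq H h1,
        eq_bot_of_card_eq K (hc ▸ h1)]⟩
    have hne : (Nat.card H).primeFactors.Nonempty :=
      Nat.nonempty_primeFactors.mpr (by have : 0 < Nat.card H := Nat.card_pos; omega)
    set q := (Nat.card H).primeFactors.max' hne with hqdef
    have hqm := Nat.mem_primeFactors.mp ((Nat.card H).primeFactors.max'_mem hne)
    have hmax : ∀ r : ℕ, r.Prime → r ∣ Nat.card H → r ≤ q := fun r hr h =>
      Finset.le_max' _ r (Nat.mem_primeFactors.mpr ⟨hr, h, hqm.2.2⟩)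
    have := Fact.mk hqm.1
    -- normal Sylow subgroups of `H` and `K`, which are Sylow in `G`
    have key : ∀ L : Subgroup G, Cfsg.IsSupersolvable L → Nat.card L = Nat.card H →
        ∃ P : Sylow q G, (P : Subgroup G) ≤ L ∧
          L ≤ normalizer ((P : Subgroup G) : Set G) := by
      intro L hL hLc
      obtain ⟨P0⟩ : Nonempty (Sylow q L) := inferInstance
      have hn0 := sylow_normal_of_max_prime hL (fun r hr h => hmax r hr (hLc ▸ h)) P0
      have hLi : L.index = H.index := by
        have h2 := L.card_mul_index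
        rw [← H.card_mul_index, hLc] at h2
        exact Nat.eq_of_mul_eq_mul_left Nat.card_pos h2
      have hcard : Nat.card ((P0 : Subgroup L).map L.subtype) =
          q ^ (Nat.card G).factorization q := by
        rw [card_map_of_injective L.subtype_injective, P0.card_eq_multiplicity,
          ← L.card_mul_index, Nat.factorization_mul Nat.card_pos.ne' index_ne_zero_of_finite,
          Finsupp.coe_add, Pi.add_apply, hLi,
          Nat.factorization_eq_zero_of_not_dvd (n := H.index) (p := q) fun h =>
            Nat.not_coprime_of_dvd_of_dvd hqm.1.one_lt hqm.2.1 h hhall, add_zero]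
      refine ⟨Sylow.ofCard _ hcard, ?_, ?_⟩
      · rw [Sylow.coe_ofCard]; exact map_subtype_le _
      · rw [Sylow.coe_ofCard]
        intro x hx
        refine mem_normalizer_iff.mpr fun y => ⟨?_, ?_⟩
        · rintro ⟨z, hz, rfl⟩
          exact ⟨⟨x, hx⟩ * z * ⟨x, hx⟩⁻¹, hn0.conj_mem z hz _, rfl⟩
        · rintro ⟨z, hz, he⟩
          refine ⟨⟨x, hx⟩⁻¹ * z * ⟨x, hx⟩, (by have := hn0.conj_mem z hz ⟨x, hx⟩⁻¹; rw [inv_inv] at this; exact this), ?_⟩
          change x⁻¹ * L.subtype z * x = y
          rw [he]; group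
    obtain ⟨P, hPH, hHM⟩ := key H hH rfl
    obtain ⟨Q, hQK, hKM⟩ := key K hK hc.symm
    obtain ⟨g, hg⟩ := MulAction.exists_smul_eq G Q P
    set K' := MulAut.conj g • K with hK'
    have hK'ss : Cfsg.IsSupersolvable K' :=
      isSupersolvable_of_surjective (equivSMul (MulAut.conj g) K).toMonoidHom
        (equivSMul (MulAut.conj g) K).surjective hK
    have hPK : (P : Subgroup G) ≤ K' := by
      rw [← hg, Sylow.coe_subgroup_smul]
      exact pointwise_smul_le_pointwise_smul_iff.mpr hQK
    set M := normalizer ((P : Subgroup G) : Set G) with hM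
    have hK'M : K' ≤ M := by
      intro x hx
      obtain ⟨k, hk, rfl⟩ := hx
      have h2 := mem_normalizer_iff.mp (hKM hk)
      rw [hM, mem_normalizer_iff]
      intro y
      rw [← hg, Sylow.coe_subgroup_smul, mem_pointwise_smul_iff_inv_smul_mem,
        mem_pointwise_smul_iff_inv_smul_mem, h2]
      simp [MulAut.smul_def, mul_assoc]
    -- pass to `M ⧸ P`
    have hPn : ((P : Subgroup G).subgroupOf M).Normal := normal_in_normalizer
    set N := (P : Subgroup G).subgroupOf M with hN
    set π := QuotientGroup.mk' N with hπ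
    set HM := H.subgroupOf M with hHM'
    set KM := K'.subgroupOf M with hKM'
    have hNH : N ≤ HM := fun x hx => hPH hx
    have hNK : N ≤ KM := fun x hx => hPK hx
    have hcH : Nat.card HM = Nat.card H := Nat.card_congr (subgroupOfEquivOfLe hHM).toEquiv
    have hcK : Nat.card KM = Nat.card H := by
      rw [Nat.card_congr (subgroupOfEquivOfLe hK'M).toEquiv, hK', card_conj_smul, hc]
    have eH := card_map_mk'_of_le HM N hNH
    have eK := card_map_mk'_of_le KM N hNK
    have hNcard : 1 < Nat.card N := by
      rw [Nat.card_congr (subgroupOfEquivOfLe (hPH.trans hHM)).toEquiv]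
      refine (Subgroup.one_lt_card_iff_ne_bot _).mpr (P.ne_bot_of_dvd_card ?_)
      exact hqm.2.1.trans H.card_subgroup_dvd_card
    have hpos : 0 < Nat.card (HM.map π) := Nat.card_pos
    have hlt : Nat.card (HM.map π) ≤ n := by
      have h2 := Nat.mul_le_mul_left (Nat.card (HM.map π)) hNcard
      rw [hπ] at hpos h2 ⊢
      omega
    have hsH : Cfsg.IsSupersolvable (HM.map π) :=
      isSupersolvable_of_surjective _ (MonoidHom.subgroupMap_surjective π HM)
        (isSupersolvable_of_surjective (subgroupOfEquivOfLe hHM).symm.toMonoidHom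
          (subgroupOfEquivOfLe hHM).symm.surjective hH)
    have hsK : Cfsg.IsSupersolvable (KM.map π) :=
      isSupersolvable_of_surjective _ (MonoidHom.subgroupMap_surjective π KM)
        (isSupersolvable_of_surjective (subgroupOfEquivOfLe hK'M).symm.toMonoidHom
          (subgroupOfEquivOfLe hK'M).symm.surjective hK'ss)
    have hceq : Nat.card (HM.map π) = Nat.card (KM.map π) :=
      Nat.eq_of_mul_eq_mul_right Nat.card_pos (eH.trans (hcH.trans (eK.trans hcK).symm))
    have hco : (Nat.card (HM.map π)).Coprime (HM.map π).index := by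
      rw [index_map_eq _ (QuotientGroup.mk'_surjective N)
        (by rw [QuotientGroup.ker_mk']; exact hNH)]
      refine Nat.Coprime.coprime_dvd_left ⟨Nat.card N, by rw [← hcH]; exact eH.symm⟩
        (hhall.coprime_dvd_right ?_)
      exact relIndex_dvd_index_of_le hHM |>.trans dvd_rfl
    obtain ⟨y, hy⟩ := ih (M ⧸ N) (HM.map π) (KM.map π) hlt hsH hsK hceq hco
    obtain ⟨x, rfl⟩ := QuotientGroup.mk'_surjective N y
    refine ⟨g⁻¹ * (x : G), ?_⟩
    rw [map_mul, mul_smul, map_inv, inv_smul_eq_iff, ← hK']
    refine eq_of_le_of_card_ge ?_ (by simp [hK', card_conj_smul, hc])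
    intro z hz
    obtain ⟨h, hh, rfl⟩ := hz
    have h2 : π x * π ⟨h, hHM hh⟩ * (π x)⁻¹ ∈ KM.map π :=
      hy ▸ ⟨π ⟨h, hHM hh⟩, mem_map_of_mem π (show (⟨h, hHM hh⟩ : M) ∈ HM from hh), rfl⟩
    rw [← map_inv, ← map_mul, ← map_mul, ← mem_comap, hπ, comap_map_mk',
      sup_eq_left.mpr hNK] at h2
    exact h2

/-- P. Hall: supersolvable Hall subgroups of the same order are conjugate. -/
theorem hall_conj {G : Type u} [Group G] [Finite G] (H K : Subgroup G)
    (hH : Cfsg.IsSupersolvable H) (hK : Cfsg.IsSupersolvable K)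
    (hcard : Nat.card H = Nat.card K) (hHall : (Nat.card H).Coprime H.index) :
    ∃ x : G, MulAut.conj x • H = K :=
  hall_conj_aux (Nat.card H) G H K le_rfl hH hK hcard hHall

end Cfsg.Agent.SupersolvableHall
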